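import Mathlib
import Cfsg.Agent.Lib.Block.Deg16.Cases
import Cfsg.Agent.Lib.Block.Codegree

/-!
A group generated by the conjugates of an element of order `p` with a faithful character of degree
`p - e`, `e = |R|`: it is perfect and simple modulo the centre; the reduction to such a group.
-/

set_option autoImplicit false
set_option linter.unusedSectionVars false
set_option linter.style.haveILetI false
set_option maxHeartbeats 800000

namespace Cfsg.Agent.Block.Deg26

open scoped ComplexConjugate commutatorElement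
open scoped _root_.Classical
open Cfsg Cfsg.Agent.Block Cfsg.Agent.Char Cfsg.Agent.Char.DefectOne Cfsg.Agent.Block.PMinusTwo
  Cfsg.Agent.Block.SmallFaith

universe w

variable {G : Type w} [Group G]

/-- A subgroup covering the group modulo the centre has the same quotient by its centre. -/
theorem center_quot_equiv {N : Subgroup G}
    (hcov : ∀ g : G, ∃ z ∈ Subgroup.center G, ∃ n ∈ N, g = z * n) :
    Nonempty (N ⧸ Subgroup.center N ≃* G ⧸ Subgroup.center G) := by
  set φ : N →* G ⧸ Subgroup.center G := (QuotientGroup.mk' (Subgroup.center G)).comp N.subtype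
  have hφ : Function.Surjective φ := fun q => by
    obtain ⟨g, rfl⟩ := QuotientGroup.mk_surjective q
    obtain ⟨z, hz, n, hn, rfl⟩ := hcov g
    refine ⟨⟨n, hn⟩, ?_⟩
    rw [QuotientGroup.mk_mul, (QuotientGroup.eq_one_iff z).2 hz, one_mul]
    rfl
  have hker : φ.ker = Subgroup.center N := by
    ext ⟨n, hn⟩
    rw [MonoidHom.mem_ker, MonoidHom.comp_apply, QuotientGroup.mk'_apply, QuotientGroup.eq_one_iff,
      Subgroup.mem_center_iff, Subgroup.mem_center_iff]
    refine ⟨fun h g => Subtype.ext (h g), fun h g => ?_⟩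
    obtain ⟨z, hz, m, hm, rfl⟩ := hcov g
    have h1 : m * n = n * m := congrArg Subtype.val (h ⟨m, hm⟩)
    show z * m * n = n * (z * m)
    rw [mul_assoc, h1, ← mul_assoc, ← Subgroup.mem_center_iff.1 hz n, mul_assoc]
  exact ⟨(QuotientGroup.quotientMulEquivOfEq hker).symm.trans
    (QuotientGroup.quotientKerEquivOfSurjective φ hφ)⟩

variable [Fintype G] {p : ℕ} [hp : Fact p.Prime]

/-- The group generated by the conjugates of `u`, with the character of degree `p - e`. -/
structure Exc (p : ℕ) [Fact p.Prime] (u : G) (R : Subgroup (ZMod p)ˣ) (ζ : IrrCharacter G) :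
    Prop where
  sit : Sit p u R
  gen : ∀ K : Subgroup G, K.Normal → u ∈ K → K = ⊤
  faith : ∀ g : G, (ζ : G → ℂ) g = (ζ : G → ℂ) 1 → g = 1
  deg : charDegree (ζ : G → ℂ) + Nat.card R = p
  two : 2 ≤ Nat.card R
  half : 2 * Nat.card R + 1 ≤ p
  val : ∃ q₀ : (ZMod p)ˣ ⧸ R, ∀ i : ZMod p, i ≠ 0 → (ζ : G → ℂ) (pw u i) = -cosum R q₀ i

namespace Exc

variable {u : G} {R : Subgroup (ZMod p)ˣ} {ζ : IrrCharacter G} (X : Exc p u R ζ)
include X

theorem small : charDegree (ζ : G → ℂ) + 2 ≤ p := by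
  have := X.deg
  have := X.two
  omega

theorem five : 5 ≤ p := by
  have := X.two
  have := X.half
  omega

theorem isChar : IsCharacter G (ζ : G → ℂ) := IsIrr.isCharacter ζ.2

theorem u_pow : u ^ p = 1 := by
  have := pow_orderOf_eq_one u
  rwa [X.sit.hu] at this

theorem not_sq_dvd : ¬ p ^ 2 ∣ Nat.card G := by
  intro h
  rw [← (Subgroup.zpowers u).card_mul_index, X.sit.cardP, pow_two] at h
  exact X.sit.hsyl (Nat.dvd_of_mul_dvd_mul_left hp.out.pos h)

theorem exists_conj_ne : ∃ (g : G) (r : ZMod p), r ≠ 1 ∧ g * u * g⁻¹ = pw u r := by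
  haveI : Nontrivial R := Finite.one_lt_card_iff_nontrivial.1 X.two
  obtain ⟨r, hr⟩ := exists_ne (1 : R)
  obtain ⟨g, hg⟩ := (X.sit.mem_R _).1 r.2
  exact ⟨g, _, fun h => hr (Subtype.ext (Units.ext h)), hg⟩

theorem perfect : commutator G = ⊤ := by
  obtain ⟨g, r, hr, hg⟩ := X.exists_conj_ne
  refine X.gen _ inferInstance ?_
  have h6 : pw u (r - 1) ∈ commutator G := by
    have h : ⁅g, u⁆ ∈ commutator G :=
      Subgroup.commutator_mem_commutator (Subgroup.mem_top g) (Subgroup.mem_top u)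
    rwa [commutatorElement_def, hg, show pw u r * u⁻¹ = pw u (r - 1) by
      rw [mul_inv_eq_iff_eq_mul]
      conv_rhs => arg 2; rw [← X.sit.pw_one']
      rw [X.sit.pw_add, sub_add_cancel]] at h
  have e : pw u (r - 1) ^ ((r - 1)⁻¹ : ZMod p).val = u := by
    rw [pw_pow X.sit.cardP (Subgroup.mem_zpowers u) X.sit.u_ne, ZMod.natCast_zmod_val,
      mul_inv_cancel₀ (sub_ne_zero.2 hr), X.sit.pw_one']
  exact e ▸ pow_mem h6 _

theorem no_normal : ∀ H : Subgroup G, H.Normal → Nat.card H ≠ p := by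
  intro H hH hHp
  haveI := hH
  have huH : u ∈ H := HalfDeg.mem_of_normal_card X.not_sq_dvd hHp X.u_pow
  have hall : ∀ g : G, g ∈ Subgroup.zpowers u := fun g => by
    rw [Subgroup.eq_of_le_of_card_ge (Subgroup.zpowers_le.2 huH) (by rw [hHp, X.sit.cardP]),
      X.gen H hH huH]
    trivial
  obtain ⟨g, r, hr, hg⟩ := X.exists_conj_ne
  obtain ⟨n, rfl⟩ := Subgroup.mem_zpowers_iff.1 (hall g)
  rw [show u ^ n * u * (u ^ n)⁻¹ = pw u (1 : ZMod p) by rw [X.sit.pw_one']; group] at hg
  exact hr (X.sit.pw_inj' hg).symm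

/-- A normal subgroup not containing `u` is central. -/
theorem le_center (K : Subgroup G) [K.Normal] (huK : u ∉ K) : K ≤ Subgroup.center G := by
  have hpK : ¬ p ∣ Nat.card K := fun h => huK (HalfDeg.mem_of_dvd X.not_sq_dvd h X.u_pow)
  intro k hk
  have hc : Commute k u := HalfDeg.commute_kernel X.not_sq_dvd X.isChar X.faith (charDeg_spec' ζ)
    X.small hpK X.sit.hu hk
  obtain ⟨i, z, hz, rfl⟩ := X.sit.cent_pw (X.sit.mem_cg.2 hc.eq)
  by_cases hi : i = 0
  · rw [hi, show pw u (0 : ZMod p) = 1 by simp [pw], one_mul]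
    exact hz
  · exact absurd ((X.sit.singular_pw hi hz).trans (Subgroup.orderOf_dvd_natCard K hk)) hpK

theorem u_not_center : u ∉ Subgroup.center G := fun h =>
  X.sit.zreg (X.sit.hu ▸ Subgroup.orderOf_dvd_natCard _ h)

theorem quot_simple : IsSimpleGroup (G ⧸ Subgroup.center G) := by
  haveI : Nontrivial (G ⧸ Subgroup.center G) :=
    ⟨(u : G ⧸ Subgroup.center G), 1, fun e => X.u_not_center ((QuotientGroup.eq_one_iff u).1 e)⟩
  refine ⟨fun M hM => ?_⟩
  haveI := hM
  haveI : (M.comap (QuotientGroup.mk' (Subgroup.center G))).Normal := hM.comap _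
  by_cases huM : u ∈ M.comap (QuotientGroup.mk' (Subgroup.center G))
  · refine Or.inr (eq_top_iff.2 fun q _ => ?_)
    obtain ⟨g, rfl⟩ := QuotientGroup.mk_surjective q
    exact ((X.gen _ inferInstance huM).symm ▸ Subgroup.mem_top g :
      g ∈ M.comap (QuotientGroup.mk' (Subgroup.center G)))
  · refine Or.inl (eq_bot_iff.2 fun q hq => ?_)
    obtain ⟨g, rfl⟩ := QuotientGroup.mk_surjective q
    exact (Subgroup.mem_bot).2 ((QuotientGroup.eq_one_iff g).2 (X.le_center _ huM hq))

/-- The character is extremal only on the centre. -/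
theorem center_of_norm {g : G} (hg : ‖(ζ : G → ℂ) g‖ = (charDegree (ζ : G → ℂ) : ℝ)) :
    g ∈ Subgroup.center G := by
  obtain ⟨n, ρ, hρ, hχ, h1, -⟩ := IsIrr.exists_rep ζ.2
  haveI := hρ
  have hn : charDegree (ζ : G → ℂ) = n :=
    Nat.cast_injective (R := ℂ) (by rw [← charDeg_spec', h1])
  obtain ⟨c, hc⟩ := (norm_character_eq_iff ρ g).1 (by rw [hχ, hg, hn, Module.finrank_fin_fun])
  have hinj : Function.Injective ρ := by
    refine (injective_iff_map_eq_one ρ).2 fun x hx => X.faith x ?_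
    rw [← hχ]
    simp only [Representation.character, hx, map_one]
  refine Subgroup.mem_center_iff.2 fun x => hinj ?_
  rw [map_mul, map_mul, hc, ← Module.End.one_eq_id, mul_smul_comm, mul_one, smul_mul_assoc, one_mul]

theorem omega_inj : Function.Injective (omega ζ) :=
  (injective_iff_map_eq_one _).2 fun z hz => Subtype.ext (X.faith _ (by
    rw [omega_at_one, hz, Units.val_one, one_mul]))

theorem center_pow {z : G} (hz : z ∈ Subgroup.center G) : z ^ charDegree (ζ : G → ℂ) = 1 := by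
  have h := X.omega_inj (a₁ := (⟨z, hz⟩ : Subgroup.center G) ^ charDegree (ζ : G → ℂ)) (a₂ := 1)
    (by rw [map_pow, Deg16.omega_pow_deg X.perfect, map_one])
  exact congrArg Subtype.val h

theorem center_coprime {q : ℕ} (hq : q.Prime) (hqd : ¬ q ∣ charDegree (ζ : G → ℂ)) :
    ¬ q ∣ Nat.card (Subgroup.center G) := by
  intro h
  haveI := Fact.mk hq
  obtain ⟨z, hz⟩ := exists_prime_orderOf_dvd_card' q h
  rw [← Subgroup.orderOf_coe] at hz
  exact hqd (hz ▸ orderOf_dvd_of_pow_eq_one (X.center_pow z.2))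

theorem index_mul : Nat.card (G ⧸ Subgroup.center G) * Nat.card (Subgroup.center G) = Nat.card G :=
  ((Subgroup.center G).card_eq_card_quotient_mul_card_subgroup).symm

end Exc

/-- The reduction to a group generated by the conjugates of `u`. -/
theorem exists_exc (hp5 : 5 ≤ p) (P : Sylow p G) (hP : Nat.card P = p)
    (hnn : ¬ (P : Subgroup G).Normal) (ζ : IrrCharacter G)
    (hfaith : ∀ g, (ζ : G → ℂ) g = (ζ : G → ℂ) 1 → g = 1)
    (hdeg : charDegree (ζ : G → ℂ) + 2 ≤ p) {u : G} {R : Subgroup (ZMod p)ˣ} (L : Sit p u R)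
    (hde : charDegree (ζ : G → ℂ) + Nat.card R = p) (hR2 : 2 * Nat.card R + 1 ≤ p) :
    ∃ K : Subgroup G, (∀ g : G, ∃ z ∈ Subgroup.center G, ∃ x ∈ K, g = z * x) ∧
      ∃ (v : K) (R' : Subgroup (ZMod p)ˣ) (ζ' : IrrCharacter K), Exc p v R' ζ' ∧
        charDegree (ζ' : K → ℂ) = charDegree (ζ : G → ℂ) ∧ R' = R := by
  have hsq := SmallFaith.not_sq_dvd P hP
  have hn := no_normal_order P hP hnn
  set K := Subgroup.normalClosure ({u} : Set G) with hK
  haveI hKn : K.Normal := Subgroup.normalClosure_normal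
  letI := Fintype.ofFinite K
  set ζ₁ : IrrCharacter K := ⟨fun x : K => (ζ : G → ℂ) x,
    closure_irr (by omega) hsq hn ζ hfaith hdeg L.hu⟩
  have hfaith₁ : ∀ x : K, (ζ₁ : K → ℂ) x = (ζ₁ : K → ℂ) 1 → x = 1 := fun x hx =>
    Subtype.ext (hfaith x hx)
  have hdeg₁ : charDegree (ζ₁ : K → ℂ) = charDegree (ζ : G → ℂ) := by
    refine Nat.cast_injective (R := ℂ) ?_
    rw [← charDeg_spec' ζ₁, ← charDeg_spec' ζ]
    rfl
  have huK : u ∈ K := Subgroup.subset_normalClosure rfl
  have hKdvd : p ∣ Nat.card K := L.hu ▸ Subgroup.orderOf_dvd_natCard K huK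
  have hKsq : ¬ p ^ 2 ∣ Nat.card K := fun h => hsq (h.trans (Subgroup.card_subgroup_dvd_card K))
  let Q : Sylow p K := default
  have hQ : Nat.card Q = p := by
    obtain ⟨k, hk⟩ := Q.isPGroup'.exists_card_eq
    rcases Nat.lt_trichotomy k 1 with h | h | h
    · exfalso
      have := Q.pow_dvd_card_of_pow_dvd_card (n := 1) (by rwa [pow_one])
      rw [hk, show k = 0 by omega, pow_one, pow_zero] at this
      exact hp.out.not_dvd_one this
    · rw [hk, h, pow_one]
    · exact absurd ((Nat.pow_dvd_pow p h).trans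
        (hk ▸ Subgroup.card_subgroup_dvd_card (Q : Subgroup K))) hKsq
  have hQn : ¬ (Q : Subgroup K).Normal := by
    intro h
    haveI := Q.characteristic_of_normal h
    exact hn ((Q : Subgroup K).map K.subtype) inferInstance
      (by rw [Subgroup.card_map_of_injective K.subtype_injective]; exact hQ)
  obtain ⟨v, R', L', hcase⟩ := Deg16.exists_cases_few hp5 Q hQ hQn ζ₁ hfaith₁ (by omega)
  rw [hdeg₁] at hcase
  rcases hcase with ⟨-, hR', hd'⟩ | ⟨hde', hR2', hval⟩
  · omega
  have hvord : orderOf (v : G) = p := by rw [Subgroup.orderOf_coe, L'.hu]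
  obtain ⟨k, s, hs, hv⟩ := L.exists_conj hvord
  have L'' : Sit p (v : G) R := hv ▸ L.conj_pw_sit k hs
  have hpwv : ∀ i : ZMod p, ((pw v i : K) : G) = pw (v : G) i := fun i => by
    simp [pw, SubmonoidClass.coe_pow]
  have hRR : R' = R := by
    refine Subgroup.eq_of_le_of_card_ge (fun r hr => ?_) (by omega)
    obtain ⟨g, hg⟩ := (L'.mem_R _).1 hr
    refine (L''.mem_R _).2 ⟨g, ?_⟩
    have h := congrArg Subtype.val hg
    rwa [Subgroup.coe_mul, Subgroup.coe_mul, Subgroup.coe_inv, hpwv] at h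
  have hgen : ∀ M : Subgroup K, M.Normal → v ∈ M → M = ⊤ := by
    intro M hM hvM
    haveI := hM
    have hMp : p ∣ Nat.card M := L'.hu ▸ Subgroup.orderOf_dvd_natCard M hvM
    have hle : K ≤ M.map K.subtype := by
      refine (Subgroup.closure_le _).2 fun x hx => ?_
      obtain ⟨y, hy, hc⟩ := Group.mem_conjugatesOfSet_iff.1 hx
      rw [Set.mem_singleton_iff.1 hy] at hc
      obtain ⟨g, rfl⟩ := isConj_iff.1 hc
      refine ⟨⟨g * u * g⁻¹, hKn.conj_mem u huK g⟩, HalfDeg.mem_of_dvd hKsq hMp (Subtype.ext ?_), rfl⟩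
      have hup : u ^ p = 1 := L.hu ▸ pow_orderOf_eq_one u
      rw [SubmonoidClass.coe_pow, conj_pow, hup, mul_one, mul_inv_cancel]
      rfl
    refine eq_top_iff.2 fun x _ => ?_
    obtain ⟨y, hy, hyx⟩ := hle x.2
    rwa [← Subtype.ext hyx]
  refine ⟨K, fun g => ?_, v, R', ζ₁,
    ⟨L', hgen, hfaith₁, by rw [hdeg₁, hde'], by omega, hR2', hval⟩, hdeg₁, hRR⟩
  have hgv : g * (v : G) * g⁻¹ ∈ K := hKn.conj_mem _ v.2 g
  obtain ⟨x, i, hi, hx⟩ := L'.exists_conj (g := ⟨_, hgv⟩) (by
    rw [Subgroup.orderOf_mk, show g * (v : G) * g⁻¹ = MulAut.conj g (v : G) by simp,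
      MulEquiv.orderOf_eq, hvord])
  have hx' : ((x : G)⁻¹ * g) * (v : G) * ((x : G)⁻¹ * g)⁻¹ = pw (v : G) i := by
    have h := congrArg Subtype.val hx
    simp only [Subgroup.coe_mul, Subgroup.coe_inv, hpwv] at h
    calc _ = (x : G)⁻¹ * (g * (v : G) * g⁻¹) * (x : G) := by group
      _ = _ := by rw [h]; group
  obtain ⟨y, hy⟩ := (L'.mem_R (Units.mk0 i hi)).1 (hRR.symm ▸ (L''.mem_R _).2 ⟨_, hx'⟩)
  have hy' : (y : G) * (v : G) * (y : G)⁻¹ = pw (v : G) i := by
    have h := congrArg Subtype.val hy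
    simpa only [Subgroup.coe_mul, Subgroup.coe_inv, hpwv, Units.val_mk0] using h
  set c := (y : G)⁻¹ * ((x : G)⁻¹ * g) with hc
  have hcv : c * (v : G) = (v : G) * c := by
    have h : c * (v : G) * c⁻¹ = (v : G) := by
      calc c * (v : G) * c⁻¹ = (y : G)⁻¹ * (((x : G)⁻¹ * g) * (v : G) * ((x : G)⁻¹ * g)⁻¹) * (y : G) := by
            rw [hc]; group
        _ = (y : G)⁻¹ * ((y : G) * (v : G) * (y : G)⁻¹) * (y : G) := by rw [hx', hy']
        _ = _ := by group
    exact mul_inv_eq_iff_eq_mul.1 h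
  obtain ⟨n, z, hz, hcz⟩ := L''.cent c hcv
  refine ⟨z, hz, (x : G) * (y : G) * (v : G) ^ n,
    mul_mem (mul_mem x.2 y.2) (pow_mem v.2 n), ?_⟩
  calc g = (x : G) * (y : G) * c := by rw [hc]; group
    _ = (x : G) * (y : G) * (v : G) ^ n * z := by rw [hcz]; group
    _ = _ := Subgroup.mem_center_iff.1 hz _

end Cfsg.Agent.Block.Deg26
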