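import Mathlib
import Cfsg.Agent.Lib.Block.Deg26.Gen
import Cfsg.Agent.Lib.Char.Galois

/-!
The principal block at `p` of a group generated by the conjugates of `u`: the decomposition of the
product of a Galois conjugate of the character of degree `p - e` with its complex conjugate.
-/

set_option autoImplicit false
set_option linter.unusedSectionVars false
set_option linter.style.haveILetI false
set_option maxHeartbeats 800000

namespace Cfsg.Agent.Block.Deg26

open scoped ComplexConjugate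
open scoped _root_.Classical
open Cfsg Cfsg.Agent.Block Cfsg.Agent.Char Cfsg.Agent.Char.BP Cfsg.Agent.Char.DefectOne
  Cfsg.Agent.Block.PMinusTwo Cfsg.Agent.Block.SmallFaith Cfsg.Agent.Block.Deg16

universe w

variable {G : Type w} [Group G] [Fintype G] {p : ℕ} [hp : Fact p.Prime]

/-- The product of a conjugate of `ζ` with the complex conjugate of `ζ`. -/
noncomputable def mixed (ζ : IrrCharacter G) (k : ℕ) : G → ℂ :=
  fun g => (ζ : G → ℂ) (g ^ k) * conj ((ζ : G → ℂ) g)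

variable {u : G} {R : Subgroup (ZMod p)ˣ} {ζ : IrrCharacter G} {τ : Subgroup.center G →* ℂˣ}
  {Y : (ZMod p)ˣ ⧸ R → IrrCharacter G} {δ : ℤ}

/-- The multiplicities in a character. -/
structure Dec (u : G) (τ : Subgroup.center G →* ℂˣ) (Y : (ZMod p)ˣ ⧸ R → IrrCharacter G) (δ : ℤ)
    (Φ : G → ℂ) (N : ℕ) (M : (ZMod p)ˣ ⧸ R → ℕ) (m : IrrCharacter G → ℕ) (k r : ℕ) : Prop where
  inner : ∀ ψ : IrrCharacter G, classInner Φ (ψ : G → ℂ) = (m ψ : ℂ)
  fam : ∀ q, M q = m (Y q)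
  total : ∑ i ∈ Finset.univ.erase (0 : ZMod p), Φ (pw u i) =
    ((-(δ * Nat.card R) * ∑ q, (M q : ℤ) +
      ((p : ℤ) - 1) * ∑ ψ ∈ others u τ Y, sgn u ψ * (m ψ : ℤ) : ℤ) : ℂ)
  degree : (∑ q, M q) * charDegree (Y 1 : G → ℂ) +
    ∑ ψ ∈ others u τ Y, m ψ * charDegree (ψ : G → ℂ) + p * k = N
  norm : classInner Φ Φ = ((∑ q, M q ^ 2 + ∑ ψ ∈ others u τ Y, m ψ ^ 2 + r : ℕ) : ℂ)
  rest : r ≤ k * k

/-- A class function that transforms by `τ` has its constituents above `τ`. -/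
theorem omega_of_inner' {Φ : G → ℂ} (hτ : ∀ (z : Subgroup.center G) (g : G),
    Φ ((z : G) * g) = (τ z : ℂ) * Φ g) (ψ : IrrCharacter G)
    (h : classInner Φ (ψ : G → ℂ) ≠ 0) : omega ψ = τ := by
  refine MonoidHom.ext fun z => Units.ext ?_
  have h1 : classInner Φ (ψ : G → ℂ) =
      (τ z : ℂ) * conj (omega ψ z : ℂ) * classInner Φ (ψ : G → ℂ) := by
    conv_lhs => simp only [classInner]; rw [← Equiv.sum_comp (Equiv.mulLeft (z : G))]
    conv_rhs => simp only [classInner]; rw [mul_left_comm, Finset.mul_sum]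
    refine congrArg _ (Finset.sum_congr rfl fun g _ => ?_)
    simp only [Equiv.coe_mulLeft, hτ, omega_spec, map_mul]
    ring
  have h2 : (τ z : ℂ) * conj (omega ψ z : ℂ) = 1 := by
    refine mul_right_cancel₀ h ?_
    rw [one_mul, ← h1]
  calc (omega ψ z : ℂ) = (τ z : ℂ) * conj (omega ψ z : ℂ) * (omega ψ z : ℂ) := by
        rw [h2, one_mul]
    _ = _ := by rw [mul_assoc, omega_conj_mul, mul_one]

theorem exists_dec (F : Fam p u R τ Y δ) (L : Sit p u R) (he : 2 * Nat.card R < p) {Φ : G → ℂ}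
    (hΦ : IsCharacter G Φ)
    (hτ : ∀ (z : Subgroup.center G) (g : G), Φ ((z : G) * g) = (τ z : ℂ) * Φ g)
    {N : ℕ} (hN : Φ 1 = N) :
    ∃ (M : (ZMod p)ˣ ⧸ R → ℕ) (m : IrrCharacter G → ℕ) (k r : ℕ), Dec u τ Y δ Φ N M m k r := by
  classical
  obtain ⟨a, ha, hdec⟩ := IsChar.exists_decomp_inner hΦ
  have hzero : ∀ ψ : IrrCharacter G, omega ψ ≠ τ → a ψ = 0 := fun ψ hψ => by
    by_contra h
    exact hψ (omega_of_inner' hτ ψ (by rw [ha]; exact_mod_cast h))
  set S := Finset.univ.filter fun ψ : IrrCharacter G =>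
    omega ψ = τ ∧ ψ ∉ Set.range Y ∧ ψ ∉ others u τ Y with hS
  have hmemS : ∀ {ψ}, ψ ∈ S ↔ omega ψ = τ ∧ ψ ∉ Set.range Y ∧ ψ ∉ others u τ Y := by
    simp [S]
  have hdisj : Disjoint (Finset.univ.image Y) (others u τ Y ∪ S) := by
    rw [Finset.disjoint_left]
    intro θ h1 h2
    obtain ⟨q, -, rfl⟩ := Finset.mem_image.1 h1
    rcases Finset.mem_union.1 h2 with h | h
    · exact (mem_others.1 h).2.2 ⟨q, rfl⟩
    · exact (hmemS.1 h).2.1 ⟨q, rfl⟩
  have hdisj' : Disjoint (others u τ Y) S := by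
    rw [Finset.disjoint_left]
    intro θ h1 h2
    exact (hmemS.1 h2).2.2 h1
  have hsplit : ∀ H : IrrCharacter G → ℂ, ∑ ψ : IrrCharacter G, (a ψ : ℂ) * H ψ =
      ∑ q, (a (Y q) : ℂ) * H (Y q) + (∑ ψ ∈ others u τ Y, (a ψ : ℂ) * H ψ +
        ∑ ψ ∈ S, (a ψ : ℂ) * H ψ) := by
    intro H
    rw [← Finset.sum_union hdisj', ← Finset.sum_image (f := fun ψ => (a ψ : ℂ) * H ψ)
      (fun x _ y _ e => F.inj e), ← Finset.sum_union hdisj]
    refine (Finset.sum_subset (Finset.subset_univ _) fun ψ _ hn => ?_).symm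
    by_cases hom : omega ψ = τ
    · simp only [Finset.mem_union, not_or] at hn
      exact absurd (hmemS.2 ⟨hom, fun ⟨q, e⟩ => hn.1 (Finset.mem_image.2 ⟨q, Finset.mem_univ _, e⟩),
        hn.2.1⟩) hn.2.2
    · rw [hzero ψ hom, Nat.cast_zero, zero_mul]
  have hdec' : ∀ g, Φ g = ∑ ψ : IrrCharacter G, (a ψ : ℂ) * (ψ : G → ℂ) g := fun g => by
    rw [← sum_irr_apply]
    exact congrFun hdec g
  have hdvd : ∀ ψ ∈ S, ∃ c : ℕ, charDegree (ψ : G → ℂ) = p * c ∧ 0 < c := by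
    intro ψ hψ
    obtain ⟨h1, h2, h3⟩ := hmemS.1 hψ
    obtain ⟨c, hc⟩ := exists_fix_const L ψ 0 fun i hi => by
      rw [rest_val F L he h1 h2 h3 hi, Int.cast_zero]
    rw [mul_zero, add_zero] at hc
    have hc' : charDegree (ψ : G → ℂ) = p * c := by exact_mod_cast hc
    refine ⟨c, hc', Nat.pos_of_ne_zero fun h => ?_⟩
    rw [h, mul_zero] at hc'
    exact (charDeg_pos ψ).ne' hc'
  choose! c hc hc0 using hdvd
  refine ⟨fun q => a (Y q), a, ∑ ψ ∈ S, a ψ * c ψ, ∑ ψ ∈ S, a ψ ^ 2, ha, fun _ => rfl, ?_, ?_, ?_, ?_⟩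
  · rw [Finset.sum_congr rfl (g := fun i => ∑ q, (a (Y q) : ℂ) * (Y q : G → ℂ) (pw u i) +
      ∑ ψ ∈ others u τ Y, (a ψ : ℂ) * (sgn u ψ : ℂ)) fun i hi => ?_]
    · rw [Finset.sum_add_distrib, Finset.sum_comm]
      simp only [← Finset.mul_sum, F.sum_erase, Finset.sum_const,
        Finset.card_erase_of_mem (Finset.mem_univ (0 : ZMod p)), Finset.card_univ, ZMod.card,
        nsmul_eq_mul, Nat.cast_sub hp.out.one_le]
      push_cast
      rw [Finset.mul_sum, Finset.mul_sum, Finset.mul_sum]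
      congr 1 <;> exact Finset.sum_congr rfl fun x _ => by ring
    · have hi' := Finset.ne_of_mem_erase hi
      rw [hdec', hsplit, Finset.sum_eq_zero (s := S) fun ψ hψ => by
        obtain ⟨h1, h2, h3⟩ := hmemS.1 hψ
        rw [rest_val F L he h1 h2 h3 hi', mul_zero], add_zero]
      congr 1
      exact Finset.sum_congr rfl fun ψ hψ => by rw [others_val F L he hψ hi']
  · have h := hdec' 1
    rw [hsplit, hN] at h
    simp only [charDeg_spec', F.charDeg_eq _ (1 : (ZMod p)ˣ ⧸ R)] at h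
    apply Nat.cast_injective (R := ℂ)
    rw [h]
    push_cast
    rw [Finset.sum_mul, Finset.mul_sum, add_assoc]
    congr 2
    exact Finset.sum_congr rfl fun ψ hψ => by rw [hc ψ hψ]; push_cast; ring
  · have h : classInner Φ Φ = ∑ ψ : IrrCharacter G, (a ψ : ℂ) * (a ψ : ℂ) := by
      calc classInner Φ Φ = ∑ ψ : IrrCharacter G, (a ψ : ℂ) * classInner Φ (ψ : G → ℂ) := by
            simp only [classInner]
            conv_lhs => arg 2; arg 2; ext g; arg 2; rw [hdec' g]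
            simp only [map_sum, map_mul, map_natCast, Finset.mul_sum]
            rw [Finset.sum_comm]
            exact Finset.sum_congr rfl fun ψ _ => Finset.sum_congr rfl fun g _ => by ring
        _ = _ := Finset.sum_congr rfl fun ψ _ => by rw [ha]
    rw [h, hsplit]
    push_cast
    simp only [pow_two, add_assoc]
  · rw [← pow_two]
    refine le_trans (Finset.sum_le_sum fun ψ hψ => ?_)
      (Finset.sum_sq_le_sq_sum_of_nonneg fun ψ _ => Nat.zero_le _)
    exact Nat.pow_le_pow_left (Nat.le_mul_of_pos_right _ (hc0 ψ hψ)) 2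

/-- The multiplicities in the family of a character with constant values on the powers of `u`. -/
theorem fam_eq (F : Fam p u R τ Y δ) (L : Sit p u R) {Φ : G → ℂ} (hΦ : IsClassFunction G Φ)
    (hτ : ∀ (z : Subgroup.center G) (g : G), Φ ((z : G) * g) = (τ z : ℂ) * Φ g) {c : ℂ}
    (hc : ∀ i : ZMod p, i ≠ 0 → Φ (pw u i) = c) {N : ℕ} {M : (ZMod p)ˣ ⧸ R → ℕ}
    {m : IrrCharacter G → ℕ} {k r : ℕ} (D : Dec u τ Y δ Φ N M m k r) (q q' : (ZMod p)ˣ ⧸ R) :
    M q = M q' := by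
  have h := F.inner_sub L hΦ (fun _ => c) (fun i hi z => by rw [Subgroup.mem_center_iff.1 z.2 (pw u i), hτ, hc i hi]) q q'
  rw [D.inner, D.inner, ← D.fam, ← D.fam] at h
  have hs : ∑ i : ZMod p, c * conj (cosum R q i - cosum R q' i) = 0 := by
    rw [← Finset.mul_sum, ← map_sum, Finset.sum_sub_distrib, sum_cosum, sum_cosum, sub_zero,
      map_zero, mul_zero]
  rw [hs, mul_zero] at h
  exact Nat.cast_injective (sub_eq_zero.1 h)

namespace Exc

variable (X : Exc p u R ζ)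
include X

theorem e_lt : 2 * Nat.card R < p := by
  have := X.half
  omega

theorem exists_block : ∃ (Y : (ZMod p)ˣ ⧸ R → IrrCharacter G) (δ : ℤ),
    Fam p u R 1 Y δ ∧ trivialIrr G ∈ others u 1 Y := by
  obtain ⟨Y, δ, F, -⟩ := exists_fam X.sit (trivialIrr G) (by
    rw [show charDegree (trivialIrr G : G → ℂ) = 1 from
      Nat.cast_injective (R := ℂ) (by rw [← charDeg_spec', Nat.cast_one]; rfl)]
    exact hp.out.not_dvd_one)
  rw [omega_trivial] at F
  refine ⟨Y, δ, F, mem_others.2 ⟨omega_trivial, one_ne_zero, ?_⟩⟩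
  rintro ⟨q, hq⟩
  have := X.two
  have := X.half
  exact F.ne_trivial (by omega) q hq

theorem eq_trivial_of_linear {ψ : IrrCharacter G} (h : charDegree (ψ : G → ℂ) = 1) :
    ψ = trivialIrr G := by
  obtain ⟨n, ρ, hρ, hχ, h1, -⟩ := IsIrr.exists_rep ψ.2
  have hn : n = 1 := Nat.cast_injective (R := ℂ) (by rw [← h1, charDeg_spec', h])
  subst hn
  refine Subtype.ext (funext fun g => ?_)
  show (ψ : G → ℂ) g = 1
  rw [← hχ, Representation.character, LinearMap.trace_eq_matrix_trace ℂ (Pi.basisFun ℂ (Fin 1)),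
    Matrix.trace_fin_one, ← Matrix.det_fin_one (LinearMap.toMatrix _ _ (ρ g)), LinearMap.det_toMatrix,
    det_one X.perfect ρ g]

theorem two_le_deg {ψ : IrrCharacter G} (h : ψ ≠ trivialIrr G) : 2 ≤ charDegree (ψ : G → ℂ) := by
  by_contra hlt
  have := charDeg_pos ψ
  exact h (X.eq_trivial_of_linear (by omega))

theorem two_le_fam {τ : Subgroup.center G →* ℂˣ} {Y : (ZMod p)ˣ ⧸ R → IrrCharacter G} {δ : ℤ}
    (F : Fam p u R τ Y δ) (q : (ZMod p)ˣ ⧸ R) : 2 ≤ charDegree (Y q : G → ℂ) := by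
  refine X.two_le_deg (F.ne_trivial ?_ q)
  have := X.two
  have := X.half
  omega

theorem sum_sq_values :
    ∑ i ∈ Finset.univ.erase (0 : ZMod p), (ζ : G → ℂ) (pw u i) * conj ((ζ : G → ℂ) (pw u i)) =
      (Nat.card R : ℂ) * ((p : ℂ) - Nat.card R) := by
  obtain ⟨q₀, hv⟩ := X.val
  rw [Finset.sum_congr rfl (g := fun i => cosum R q₀ i * conj (cosum R q₀ i)) fun i hi => by
    rw [hv i (Finset.ne_of_mem_erase hi), map_neg, neg_mul_neg], Finset.sum_erase_eq_sub
    (Finset.mem_univ _), sum_pair, if_pos rfl, cosum_zero, map_natCast]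
  ring

theorem mixed_isChar {k : ℕ} (hk : k.Coprime (Nat.card G)) : IsCharacter G (mixed ζ k) :=
  IsChar.mul (IsChar.pow_map X.isChar hk) (IsChar.conj X.isChar)

theorem mixed_center {k : ℕ} (hk : ∀ z ∈ Subgroup.center G, z ^ k = z) (z : Subgroup.center G)
    (g : G) : mixed ζ k ((z : G) * g) = ((1 : Subgroup.center G →* ℂˣ) z : ℂ) * mixed ζ k g := by
  simp only [mixed, MonoidHom.one_apply, Units.val_one, one_mul]
  rw [(show Commute (z : G) g from (Subgroup.mem_center_iff.1 z.2 g).symm).mul_pow, hk _ z.2,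
    omega_spec, omega_spec, map_mul]
  linear_combination (ζ : G → ℂ) (g ^ k) * conj ((ζ : G → ℂ) g) * omega_conj_mul ζ z

theorem mixed_one {k : ℕ} :
    mixed ζ k 1 = ((charDegree (ζ : G → ℂ) * charDegree (ζ : G → ℂ) : ℕ) : ℂ) := by
  simp only [mixed, one_pow, charDeg_spec', map_natCast, Nat.cast_mul]

theorem mixed_values {k : ℕ} (hk : (k : ZMod p) = 1) (i : ZMod p) :
    mixed ζ k (pw u i) = (ζ : G → ℂ) (pw u i) * conj ((ζ : G → ℂ) (pw u i)) := by
  rw [mixed, pw_pow X.sit.cardP (Subgroup.mem_zpowers u) X.sit.u_ne, hk, mul_one]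

theorem mixed_trivial {k : ℕ} (hk : k.Coprime (Nat.card G)) :
    (classInner (mixed ζ k) (trivialIrr G : G → ℂ) = 1 ∧ ∀ g, (ζ : G → ℂ) (g ^ k) = (ζ : G → ℂ) g) ∨
      classInner (mixed ζ k) (trivialIrr G : G → ℂ) = 0 := by
  have h : classInner (mixed ζ k) (trivialIrr G : G → ℂ) =
      classInner (fun g => (ζ : G → ℂ) (g ^ k)) (ζ : G → ℂ) := by
    simp [classInner, mixed, trivialIrr]
  rw [h]
  by_cases he : (fun g => (ζ : G → ℂ) (g ^ k)) = (ζ : G → ℂ)
  · refine Or.inl ⟨?_, fun g => congrFun he g⟩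
    rw [he]
    exact classInner_self_irr ζ.2
  · exact Or.inr (classInner_irr_ne (IsIrr.pow_map ζ.2 hk) ζ.2 he)

/-- The mixed product has no larger norm than the square of the absolute value. -/
theorem mixed_norm_le {k : ℕ} (hk : k.Coprime (Nat.card G)) {a b : ℕ}
    (ha : classInner (mixed ζ k) (mixed ζ k) = (a : ℂ))
    (hb : classInner (mixed ζ 1) (mixed ζ 1) = (b : ℂ)) : a ≤ b := by
  set v : G → ℝ := fun g => Complex.normSq ((ζ : G → ℂ) g) with hv
  have h1 : ∀ (j : ℕ) (n : ℕ), classInner (mixed ζ j) (mixed ζ j) = (n : ℂ) →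
      (Nat.card G : ℝ)⁻¹ * ∑ g, v (g ^ j) * v g = n := by
    intro j n hn
    have h := congrArg Complex.re hn
    rw [classInner, Complex.natCast_re] at h
    rw [← h, show ((Nat.card G : ℂ))⁻¹ = (((Nat.card G : ℝ)⁻¹ : ℝ) : ℂ) by push_cast; rfl,
      Complex.re_ofReal_mul, Complex.re_sum]
    refine congrArg _ (Finset.sum_congr rfl fun g _ => ?_)
    rw [Complex.mul_conj, Complex.ofReal_re, mixed, map_mul, Complex.normSq_conj]
  have ha' := h1 k a ha
  have hb' := h1 1 b hb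
  simp only [pow_one] at hb'
  have hperm : ∑ g, v (g ^ k) * v (g ^ k) = ∑ g, v g * v g :=
    Equiv.sum_comp (powCoprime (Nat.Coprime.symm hk)) fun g => v g * v g
  have hle : ∑ g, v (g ^ k) * v g ≤ ∑ g, v g * v g := by
    have h2 : ∑ g, 2 * (v (g ^ k) * v g) ≤ ∑ g, (v (g ^ k) * v (g ^ k) + v g * v g) :=
      Finset.sum_le_sum fun g _ => by nlinarith [sq_nonneg (v (g ^ k) - v g)]
    rw [← Finset.mul_sum, Finset.sum_add_distrib, hperm] at h2
    linarith
  have : (a : ℝ) ≤ b := by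
    rw [← ha', ← hb']
    exact mul_le_mul_of_nonneg_left hle (by positivity)
  exact_mod_cast this

/-- From the exponents prime to the order of the group to those prime to the order of one element. -/
theorem lift_fix
    (hfix : ∀ k : ℕ, k.Coprime (Nat.card G) → (k : ZMod p) = 1 →
      (∀ z ∈ Subgroup.center G, z ^ k = z) → ∀ g, (ζ : G → ℂ) (g ^ k) = (ζ : G → ℂ) g)
    (g : G) {b : ℕ} (hb : b.Coprime (orderOf g))
    (h1 : b ≡ 1 [MOD p * charDegree (ζ : G → ℂ)]) :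
    (ζ : G → ℂ) (g ^ b) = (ζ : G → ℂ) g := by
  set D := p * charDegree (ζ : G → ℂ) with hD
  have hD0 : 0 < D := Nat.mul_pos hp.out.pos (charDeg_pos ζ)
  have hbD : b.Coprime D := by
    rw [Nat.coprime_iff_gcd_eq_one, Nat.ModEq.gcd_eq h1, Nat.gcd_one_left]
  set l := Nat.lcm (orderOf g) D
  have hbl : b.Coprime l := Nat.Coprime.coprime_dvd_right
    (Nat.lcm_dvd (dvd_mul_right _ _) (dvd_mul_left _ _)) (Nat.Coprime.mul_right hb hbD)
  obtain ⟨k, hk, hkb⟩ := exists_coprime_lift (N := Nat.lcm (Nat.card G) D)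
    (Nat.pos_of_ne_zero (Nat.lcm_ne_zero Nat.card_pos.ne' hD0.ne'))
    (Nat.lcm_dvd ((orderOf_dvd_natCard g).trans (Nat.dvd_lcm_left _ _)) (Nat.dvd_lcm_right _ _)) hbl
  have hkD : k ≡ 1 [MOD D] := (Nat.ModEq.of_dvd (Nat.dvd_lcm_right _ _) hkb).trans h1
  have hkg : g ^ k = g ^ b :=
    pow_eq_pow_iff_modEq.2 (Nat.ModEq.of_dvd (Nat.dvd_lcm_left _ _) hkb)
  rw [← hkg]
  refine hfix k (Nat.Coprime.coprime_dvd_right (Nat.dvd_lcm_left _ _) hk) ?_ (fun z hz => ?_) g
  · have := Nat.ModEq.of_dvd (dvd_mul_right p (charDegree (ζ : G → ℂ))) hkD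
    rw [← Nat.cast_one]
    exact (ZMod.natCast_eq_natCast_iff _ _ _).2 this
  · conv_rhs => rw [← pow_one z]
    exact pow_eq_pow_iff_modEq.2 (Nat.ModEq.of_dvd
      ((orderOf_dvd_of_pow_eq_one (X.center_pow hz)).trans (dvd_mul_left _ p)) hkD)

/-- An exponent prime to the order of `g` and congruent to one. -/
theorem exists_exponent (g : G) (hcop : (orderOf g).Coprime (p * charDegree (ζ : G → ℂ))) (k : ℕ) :
    ∃ b : ℕ, b ≡ k [MOD orderOf g] ∧ b ≡ 1 [MOD p * charDegree (ζ : G → ℂ)] :=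
  ⟨(Nat.chineseRemainder hcop k 1 : ℕ), (Nat.chineseRemainder hcop k 1).2.1,
    (Nat.chineseRemainder hcop k 1).2.2⟩

theorem pow_fixed
    (hfix : ∀ k : ℕ, k.Coprime (Nat.card G) → (k : ZMod p) = 1 →
      (∀ z ∈ Subgroup.center G, z ^ k = z) → ∀ g, (ζ : G → ℂ) (g ^ k) = (ζ : G → ℂ) g)
    (g : G) (hcop : (orderOf g).Coprime (p * charDegree (ζ : G → ℂ))) {k : ℕ}
    (hk : k.Coprime (orderOf g)) : (ζ : G → ℂ) (g ^ k) = (ζ : G → ℂ) g := by
  obtain ⟨b, hb, hb1⟩ := X.exists_exponent g hcop k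
  rw [← show g ^ b = g ^ k from pow_eq_pow_iff_modEq.2 hb]
  refine X.lift_fix hfix g ?_ hb1
  rw [Nat.coprime_iff_gcd_eq_one, Nat.ModEq.gcd_eq hb]
  exact hk

end Exc

end Cfsg.Agent.Block.Deg26
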