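import Mathlib
import Cfsg.Agent.Lib.Block.Deg26.Block
import Cfsg.Agent.Lib.Block.Deg16.Lin
import Cfsg.Agent.Lib.Classical.DicksonPGLBasic

/-!
Orders of Sylow subgroups from the values of a character, and the number of Sylow subgroups.
-/

set_option autoImplicit false
set_option linter.unusedSectionVars false
set_option linter.style.haveILetI false
set_option maxHeartbeats 800000

namespace Cfsg.Agent.Block.Deg26

open scoped ComplexConjugate
open scoped _root_.Classical
open Cfsg Cfsg.Agent.Block Cfsg.Agent.Char Cfsg.Agent.Char.DefectOne Cfsg.Agent.Block.PMinusTwo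
  Cfsg.Agent.Block.SmallFaith Cfsg.Agent.Block.Deg16

universe w

variable {G : Type w} [Group G] [Fintype G]

/-- The sum of an integral polynomial in a character over a subgroup. -/
theorem sum_prod_dvd (T : Subgroup G) [Fintype T] {χ : G → ℂ} (hχ : IsCharacter G χ) (ks : List ℤ) :
    ∀ {φ : T → ℂ}, IsCharacter T φ →
      ∃ n : ℤ, ∑ t : T, φ t * (ks.map fun k : ℤ => χ t - (k : ℂ)).prod = (Nat.card T : ℂ) * n := by
  induction ks with
  | nil =>
    intro φ hφ
    obtain ⟨n, hn⟩ := IsChar.classInner_nat hφ IsChar.one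
    refine ⟨n, ?_⟩
    simp only [List.map_nil, List.prod_nil, mul_one]
    rw [classInner] at hn
    simp only [map_one, mul_one] at hn
    rw [Int.cast_natCast, ← hn, mul_inv_cancel_left₀ (Nat.cast_ne_zero.2 Nat.card_pos.ne')]
  | cons k ks ih =>
    intro φ hφ
    obtain ⟨a, ha⟩ := ih (IsChar.mul hφ (IsChar.res hχ T))
    obtain ⟨b, hb⟩ := ih hφ
    refine ⟨a - k * b, ?_⟩
    simp only [List.map_cons, List.prod_cons]
    rw [Finset.sum_congr rfl (g := fun t : T => φ t * χ t * (ks.map fun k : ℤ => χ t - (k : ℂ)).prod -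
      (k : ℂ) * (φ t * (ks.map fun k : ℤ => χ t - (k : ℂ)).prod)) fun t _ => by ring,
      Finset.sum_sub_distrib, ← Finset.mul_sum, hb]
    simp only [Pi.mul_apply] at ha
    rw [ha]
    push_cast
    ring

theorem fact_card_eq (q : ℕ) :
    (Nat.card G).factorization q = (Nat.card (G ⧸ Subgroup.center G)).factorization q +
      (Nat.card (Subgroup.center G)).factorization q := by
  rw [(Subgroup.center G).card_eq_card_quotient_mul_card_subgroup,
    Nat.factorization_mul Nat.card_pos.ne' Nat.card_pos.ne', Finsupp.add_apply]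

/-- The exponent of `q` in the order of the group modulo the centre from an integral polynomial
supported on the centre. -/
theorem fact_bound {q : ℕ} [hq : Fact q.Prime] {χ : G → ℂ} (hχ : IsCharacter G χ) (ks : List ℤ)
    {C : ℕ} (hC : C ≠ 0)
    (hval : ∀ g : G, PEl q g → (g ∈ Subgroup.center G ∧
        (ks.map fun k : ℤ => χ g - (k : ℂ)).prod = (C : ℂ)) ∨
      (ks.map fun k : ℤ => χ g - (k : ℂ)).prod = 0)
    (h1 : (ks.map fun k : ℤ => χ 1 - (k : ℂ)).prod = (C : ℂ)) :
    (Nat.card (G ⧸ Subgroup.center G)).factorization q ≤ C.factorization q := by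
  let T : Sylow q G := default
  letI := Fintype.ofFinite (T : Subgroup G)
  obtain ⟨n, hn⟩ := sum_prod_dvd (T : Subgroup G) hχ ks IsChar.one
  simp only [one_mul] at hn
  set S := (Finset.univ : Finset (T : Subgroup G)).filter fun t : (T : Subgroup G) =>
    (ks.map fun k : ℤ => χ t - (k : ℂ)).prod ≠ 0 with hS
  have hSval : ∀ t ∈ S, (t : G) ∈ Subgroup.center G ∧
      (ks.map fun k : ℤ => χ t - (k : ℂ)).prod = (C : ℂ) := fun t ht =>
    (hval t (pEl_of_mem T.isPGroup' t.2)).resolve_right (Finset.mem_filter.1 ht).2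
  have hsum : ∑ t : (T : Subgroup G), (ks.map fun k : ℤ => χ t - (k : ℂ)).prod =
      ((S.card * C : ℕ) : ℂ) := by
    rw [← Finset.sum_subset (Finset.subset_univ S) fun t _ ht => by simpa [S] using ht,
      Finset.sum_congr rfl fun t ht => (hSval t ht).2, Finset.sum_const, nsmul_eq_mul, Nat.cast_mul]
  rw [hsum] at hn
  have hdvd : Nat.card (T : Subgroup G) ∣ S.card * C := by
    refine Int.natCast_dvd_natCast.1 ⟨n, ?_⟩
    exact_mod_cast hn
  have hS0 : S.card ≠ 0 := Finset.card_ne_zero.2 ⟨1, Finset.mem_filter.2 ⟨Finset.mem_univ _, by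
    rw [OneMemClass.coe_one, h1]
    exact_mod_cast hC⟩⟩
  have hSle : S.card ≤ q ^ (Nat.card (Subgroup.center G)).factorization q := by
    set K := (T : Subgroup G) ⊓ Subgroup.center G
    have h2 : Nat.card K ≤ q ^ (Nat.card (Subgroup.center G)).factorization q := by
      obtain ⟨k, hk⟩ := (T.isPGroup'.to_le (H := K) inf_le_left).exists_card_eq
      have h3 : q ^ k ∣ Nat.card (Subgroup.center G) := hk ▸ Subgroup.card_dvd_of_le inf_le_right
      rw [hk]
      exact Nat.pow_le_pow_right hq.out.pos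
        ((hq.out.pow_dvd_iff_le_factorization Nat.card_pos.ne').1 h3)
    refine le_trans ?_ h2
    letI := Fintype.ofFinite K
    rw [Nat.card_eq_fintype_card, ← Finset.card_univ]
    exact Finset.card_le_card_of_injOn
      (fun t => if h : ((t : G) ∈ Subgroup.center G) then (⟨t, t.2, h⟩ : K) else 1)
      (fun t _ => Finset.mem_coe.2 (Finset.mem_univ _)) fun a ha b hb e => by
        simp only [dif_pos (hSval a (Finset.mem_coe.1 ha)).1,
          dif_pos (hSval b (Finset.mem_coe.1 hb)).1] at e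
        exact Subtype.ext (congrArg (fun x : K => (x : G)) e)
  have hfS : S.card.factorization q ≤ (Nat.card (Subgroup.center G)).factorization q :=
    (Nat.pow_le_pow_iff_right hq.out.one_lt).1
      ((Nat.le_of_dvd (Nat.pos_of_ne_zero hS0) (Nat.ordProj_dvd _ _)).trans hSle)
  have hT : Nat.card (T : Subgroup G) = q ^ (Nat.card G).factorization q := T.card_eq_multiplicity
  rw [hT, hq.out.pow_dvd_iff_le_factorization (mul_ne_zero hS0 hC),
    Nat.factorization_mul hS0 hC, Finsupp.add_apply, fact_card_eq] at hdvd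
  omega

/-- The number of Sylow subgroups. -/
theorem exists_index {p : ℕ} [hp : Fact p.Prime] {u : G} {R : Subgroup (ZMod p)ˣ} (L : Sit p u R) :
    ∃ m : ℕ, m ≡ 1 [MOD p] ∧ Nat.card (G ⧸ Subgroup.center G) = Nat.card R * p * m := by
  have hPg : IsPGroup p (Subgroup.zpowers u) := IsPGroup.of_card (n := 1) (by rw [L.cardP, pow_one])
  let P : Sylow p G := IsPGroup.toSylow hPg L.hsyl
  refine ⟨Nat.card (Sylow p G), card_sylow_modEq_one p G, ?_⟩
  have h1 := (Subgroup.normalizer (Subgroup.zpowers u : Set G)).card_mul_index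
  rw [L.card_normalizer, (Subgroup.center G).card_eq_card_quotient_mul_card_subgroup] at h1
  have h2 : Nat.card (Sylow p G) = (Subgroup.normalizer (Subgroup.zpowers u : Set G)).index :=
    P.card_eq_index_normalizer
  refine Nat.eq_of_mul_eq_mul_right (Nat.card_pos (α := Subgroup.center G)) ?_
  rw [← h1, h2]
  ring

theorem fact_le_of {q b C : ℕ} (hq : q.Prime) (hC : C ≠ 0) (h : ¬ q ^ (b + 1) ∣ C) :
    C.factorization q ≤ b := by
  by_contra hlt
  exact h ((hq.pow_dvd_iff_le_factorization hC).2 (by omega))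

/-- A character trivial on the centre has degree dividing the order modulo the centre. -/
theorem deg_dvd_quot (ψ : IrrCharacter G) (h : omega ψ = 1) :
    charDegree (ψ : G → ℂ) ∣ Nat.card (G ⧸ Subgroup.center G) := by
  rw [← Subgroup.index_eq_card]
  refine (charDeg_dvd_index ψ).trans (Subgroup.index_dvd_of_le fun z hz => mem_irrKer.2 ?_)
  have h1 := omega_spec ψ ⟨z, hz⟩ 1
  rwa [mul_one, h, MonoidHom.one_apply, Units.val_one, one_mul] at h1

theorem card_psl_prime (q : ℕ) [Fact q.Prime] (hq : Odd q) :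
    Nat.card (Matrix.ProjectiveSpecialLinearGroup (Fin 2) (ZMod q)) * 2 =
      q * ((q - 1) * (q + 1)) := by
  have h := Cfsg.Agent.Dickson.PGLMax.card_psl_two (F := ZMod q) (by rwa [ZMod.card])
  rwa [ZMod.card] at h

namespace Exc

variable {p : ℕ} [hp : Fact p.Prime] {u : G} {R : Subgroup (ZMod p)ˣ} {ζ : IrrCharacter G}
  (X : Exc p u R ζ)
include X

theorem norm_le (g : G) : ‖(ζ : G → ℂ) g‖ ≤ (charDegree (ζ : G → ℂ) : ℝ) := by
  obtain ⟨n, ρ, hρ, hχ, h1, -⟩ := IsIrr.exists_rep ζ.2
  have hn : charDegree (ζ : G → ℂ) = n :=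
    Nat.cast_injective (R := ℂ) (by rw [← charDeg_spec', h1])
  have := norm_character_le ρ g
  rwa [hχ, Module.finrank_fin_fun, ← hn] at this

theorem center_eq_one_of_coprime {q : ℕ} (hq : q.Prime) (hqd : ¬ q ∣ charDegree (ζ : G → ℂ)) {g : G}
    (hg : PEl q g) (hgz : g ∈ Subgroup.center G) : g = 1 := by
  obtain ⟨k, hk⟩ := hg
  refine orderOf_eq_one_iff.1 (Nat.eq_one_of_dvd_coprimes ?_ (orderOf_dvd_of_pow_eq_one hk)
    (orderOf_dvd_of_pow_eq_one (X.center_pow hgz)))
  exact (hq.coprime_iff_not_dvd.2 hqd).pow_left k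

/-- An integral value, its bound, and the central elements. -/
theorem int_value
    (hfix : ∀ k : ℕ, k.Coprime (Nat.card G) → (k : ZMod p) = 1 →
      (∀ z ∈ Subgroup.center G, z ^ k = z) → ∀ g, (ζ : G → ℂ) (g ^ k) = (ζ : G → ℂ) g)
    (g : G) (hcop : (orderOf g).Coprime (p * charDegree (ζ : G → ℂ))) :
    ∃ n : ℤ, (ζ : G → ℂ) g = n ∧ -(charDegree (ζ : G → ℂ) : ℤ) ≤ n ∧
      n ≤ (charDegree (ζ : G → ℂ) : ℤ) ∧
      ((n = charDegree (ζ : G → ℂ) ∨ n = -(charDegree (ζ : G → ℂ) : ℤ)) → g ∈ Subgroup.center G) := by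
  obtain ⟨n, hn⟩ := IsChar.exists_int_of_fixed X.isChar g fun k hk => X.pow_fixed hfix g hcop hk
  have h := X.norm_le g
  rw [hn, Complex.norm_intCast] at h
  have h' : |n| ≤ (charDegree (ζ : G → ℂ) : ℤ) := by exact_mod_cast h
  rw [abs_le] at h'
  refine ⟨n, hn, h'.1, h'.2, fun hor => X.center_of_norm ?_⟩
  rw [hn, Complex.norm_intCast]
  rcases hor with rfl | rfl <;> simp

/-- A normal Sylow subgroup for another prime is central. -/
theorem sylow_not_normal {q : ℕ} [hq : Fact q.Prime] (hne : q ≠ p)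
    (hqd : ¬ q ∣ charDegree (ζ : G → ℂ)) (hdvd : q ∣ Nat.card G) (P : Sylow q G) :
    ¬ (P : Subgroup G).Normal := by
  intro h
  haveI := h
  have huP : u ∉ (P : Subgroup G) := fun hu => by
    obtain ⟨k, hk⟩ := P.isPGroup'.exists_card_eq
    have h1 : orderOf u ∣ q ^ k := hk ▸ Subgroup.orderOf_dvd_natCard _ hu
    rw [X.sit.hu] at h1
    exact hne ((Nat.prime_dvd_prime_iff_eq hp.out hq.out).1 (hp.out.dvd_of_dvd_pow h1)).symm
  exact X.center_coprime hq.out hqd
    ((P.dvd_card_of_dvd_card hdvd).trans (Subgroup.card_dvd_of_le (X.le_center _ huP)))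

end Exc

end Cfsg.Agent.Block.Deg26
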