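import Mathlib
import Cfsg.Agent.Lib.Block.Deg16.Main
import Cfsg.Agent.Lib.Block.Deg26.Gen

/-!
The general reduction for a faithful character of degree `d < 27` and a prime `p > d + 1`.
-/

set_option autoImplicit false
set_option linter.unusedSectionVars false
set_option linter.style.haveILetI false
set_option maxHeartbeats 800000

namespace Cfsg.Agent.Block.Deg26

open scoped _root_.Classical
open Cfsg Cfsg.Agent.Block Cfsg.Agent.Char Cfsg.Agent.Block.Deg16 Module

universe w

variable {G : Type w} [Group G] [Finite G]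

/-- The Sylow subgroup is normal, or there is a subgroup covering the group modulo its centre with a
Sylow subgroup of order `p` and the restricted character. -/
theorem exists_kernel (χ : IrrCharacter G) (hfaith : ∀ g, (χ : G → ℂ) g = (χ : G → ℂ) 1 → g = 1)
    {d : ℕ} (hdeg : charDegree (χ : G → ℂ) = d) (hd : d < 27) {p : ℕ} [hp : Fact p.Prime]
    (hpd : d + 1 < p) (P : Sylow p G) :
    (P : Subgroup G).Normal ∨ (2 ≤ d ∧ 5 ≤ p ∧ ∃ N : Subgroup G,
      (∀ g : G, ∃ z ∈ Subgroup.center G, ∃ n ∈ N, g = z * n) ∧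
      ∃ (Q : Sylow p N) (ζ : IrrCharacter N), Nat.card Q = p ∧ ¬ (Q : Subgroup N).Normal ∧
        (∀ x : N, (ζ : N → ℂ) x = (ζ : N → ℂ) 1 → x = 1) ∧ charDegree (ζ : N → ℂ) = d) := by
  obtain ⟨n, ρ, hirr, hχ⟩ := χ.2
  have hn : n = d := by
    have h1 := charDeg_spec' χ
    rw [hdeg, ← hχ, Representation.char_one, Module.finrank_fin_fun] at h1
    exact_mod_cast h1
  subst hn
  have hinj : Function.Injective ρ := (injective_iff_map_eq_one ρ).2 fun g hg => hfaith g (by
    rw [← hχ, Representation.char_one, character_eq_finrank_iff, hg]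
    rfl)
  have hnormal : PCOn ρ p ⊤ (⊤ : Submodule ℂ (Fin n → ℂ)) → (P : Subgroup G).Normal := fun hpc =>
    ⟨fun x hx g => by
      have hpx := pEl_of_mem P.isPGroup' hx
      exact mem_sylow_of_commute (hpx.conj g) P fun y hy =>
        comm_of_pcon hinj hpc (Subgroup.mem_top _) (Subgroup.mem_top _) (hpx.conj g)
          (pEl_of_mem P.isPGroup' hy)⟩
  by_cases hpc : PCOn ρ p ⊤ (⊤ : Submodule ℂ (Fin n → ℂ))
  · exact Or.inl (hnormal hpc)
  have hn2 : 2 ≤ n := by
    by_contra h
    refine hpc fun a _ b _ _ _ w _ => ?_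
    rcases Nat.eq_zero_or_pos n with rfl | h0
    · exact Subsingleton.elim _ _
    obtain rfl : n = 1 := by omega
    have key : ∀ (T : Module.End ℂ (Fin 1 → ℂ)) (v : Fin 1 → ℂ), T v = (T 1 0) • v := fun T v => by
      have hv : v = v 0 • (1 : Fin 1 → ℂ) := by
        funext i
        fin_cases i
        simp
      funext i
      fin_cases i
      conv_lhs => rw [hv, map_smul]
      simp [mul_comm]
    rw [key (ρ a) (ρ b w), key (ρ b) (ρ a w), key (ρ a) w, key (ρ b) w, smul_smul, smul_smul, mul_comm]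
  have hp4 : p ≠ 4 := fun h => absurd (h ▸ hp.out) (by norm_num)
  have hI : Irr ρ ⊤ ⊤ := by
    refine ⟨fun _ _ _ _ => Submodule.mem_top, fun h => ?_, fun W hW _ => ?_⟩
    · haveI : Nonempty (Fin n) := ⟨⟨0, by omega⟩⟩
      have h1 : (1 : Fin n → ℂ) = 0 := (Submodule.mem_bot ℂ).1 (h ▸ Submodule.mem_top)
      exact one_ne_zero h1
    · haveI : IsSimpleOrder (Subrepresentation ρ) := hirr
      rcases eq_bot_or_eq_top
        (⟨W, fun g w hw => hW g (Subgroup.mem_top g) w hw⟩ : Subrepresentation ρ) with h | h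
      · exact Or.inl (congrArg Subrepresentation.toSubmodule h)
      · exact Or.inr (congrArg Subrepresentation.toSubmodule h)
  have A : Amb ρ p := ⟨hinj, by omega, by omega, hI, hpc,
    fun C W hW hlt hnc => spec_all p (by omega) _ (by omega) (by omega) ρ C W rfl hW hnc⟩
  obtain ⟨N, hNn, hNirr, hcov, hsyl⟩ := A.exists_core
  let Q : Sylow p N := default
  obtain ⟨hQ, hQn⟩ := hsyl Q
  exact Or.inr ⟨hn2, by omega, N, hcov, Q, ⟨fun x : N => ρ.character x, isIrr_character_res hNirr⟩,
    hQ, hQn, fun x hx => faithful_res hinj N x hx, charDegree_res N⟩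

variable {G : Type w} [Group G] [Fintype G]

/-- The prime `7` and the degree `3`. -/
theorem seven_three [Fact (Nat.Prime 7)] (χ : IrrCharacter G)
    (hfaith : ∀ g, (χ : G → ℂ) g = (χ : G → ℂ) 1 → g = 1)
    (hdeg : charDegree (χ : G → ℂ) = 3) (P : Sylow 7 G) (hnn : ¬ (P : Subgroup G).Normal) :
    Nonempty (G ⧸ Subgroup.center G ≃* Matrix.ProjectiveSpecialLinearGroup (Fin 2) (ZMod 7)) := by
  rcases exists_kernel χ hfaith hdeg (by norm_num) (by norm_num) P with h |
    ⟨-, -, N, hcov, Q, ζ, hQ, hQn, hf, hdN⟩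
  · exact absurd h hnn
  letI := Fintype.ofFinite N
  obtain ⟨u, R, L, hcase⟩ := exists_cases_few (by norm_num) Q hQ hQn ζ hf (by omega)
  rcases hcase with ⟨⟨iso⟩, -, -⟩ | ⟨hde, hR2, -⟩
  · obtain ⟨e⟩ := center_quot_equiv hcov
    exact ⟨e.symm.trans iso⟩
  · omega

/-- A group generated by the conjugates of `u` with a character of degree at most 4 has no prime
divisor above 7 other than `p`. -/
theorem Exc.no_large_prime {p : ℕ} [Fact p.Prime] {u : G} {R : Subgroup (ZMod p)ˣ}
    {ζ : IrrCharacter G} (X : Exc p u R ζ) (hd : charDegree (ζ : G → ℂ) ≤ 4) {q : ℕ}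
    (hq : q.Prime) (h7 : 7 < q) (hne : q ≠ p) : ¬ q ∣ Nat.card G := by
  intro hdvd
  haveI := Fact.mk hq
  set d := charDegree (ζ : G → ℂ) with hddef
  let P : Sylow q G := default
  rcases exists_kernel ζ X.faith (d := d) rfl (by omega) (by omega) P with h |
    ⟨-, -, N, -, Q, ξ, hQ, hQn, hf, hdN⟩
  · haveI := h
    have huP : u ∉ (P : Subgroup G) := fun hu => by
      obtain ⟨k, hk⟩ := P.isPGroup'.exists_card_eq
      have h1 : orderOf u ∣ q ^ k := hk ▸ Subgroup.orderOf_dvd_natCard _ hu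
      rw [X.sit.hu] at h1
      exact hne ((Nat.prime_dvd_prime_iff_eq (Fact.out) hq).1
        ((Fact.out : p.Prime).dvd_of_dvd_pow h1)).symm
    refine X.center_coprime hq (fun h => ?_)
      ((P.dvd_card_of_dvd_card hdvd).trans (Subgroup.card_dvd_of_le (X.le_center _ huP)))
    have := Nat.le_of_dvd (charDeg_pos ζ) h
    omega
  · letI := Fintype.ofFinite N
    obtain ⟨v, R', L, hcase⟩ := SmallFaith.exists_cases h7 Q hQ hQn ξ hf (by omega)
    have h9 : q ≠ 9 := fun h => absurd (h ▸ hq) (by norm_num)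
    rcases hcase with ⟨-, -, hd'⟩ | ⟨ω, y, t, Z, ht, ht3, -, hde⟩
    · omega
    · have := Nat.mul_le_mul_left (Nat.card R') ht3
      omega

end Cfsg.Agent.Block.Deg26
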