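import Mathlib
import Cfsg.Agent.Lib.Block.Deg26.Tools
import Cfsg.Agent.Lib.Block.Deg26.Top
import Cfsg.Agent.Lib.Block.OrderPSL
import Cfsg.Agent.S0497

/-!
The degree 3 for `p = 5`: `PSL(2, 5)` or `A₆` modulo the centre.
-/

set_option autoImplicit false
set_option linter.unusedSectionVars false
set_option linter.style.haveILetI false
set_option maxHeartbeats 800000

namespace Cfsg.Agent.Block.Deg26

open scoped ComplexConjugate
open scoped _root_.Classical
open Cfsg Cfsg.Agent.Block Cfsg.Agent.Char Cfsg.Agent.Char.DefectOne Cfsg.Agent.Block.PMinusTwo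
  Cfsg.Agent.Block.SmallFaith Cfsg.Agent.Block.Deg16

universe w

variable {G : Type w} [Group G] [Fintype G]

namespace Exc

variable [hp : Fact (Nat.Prime 5)] {u : G} {R : Subgroup (ZMod 5)ˣ} {ζ : IrrCharacter G}
  (X : Exc 5 u R ζ) (hd : charDegree (ζ : G → ℂ) = 3)
include X hd

theorem five_block :
    4 ∣ Nat.card (G ⧸ Subgroup.center G) ∧
    ∀ k : ℕ, k.Coprime (Nat.card G) → (k : ZMod 5) = 1 →
      (∀ z ∈ Subgroup.center G, z ^ k = z) → ∀ g, (ζ : G → ℂ) (g ^ k) = (ζ : G → ℂ) g := by
  classical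
  have hR : Nat.card R = 2 := by
    have := X.deg
    omega
  have hQ : Fintype.card ((ZMod 5)ˣ ⧸ R) = 2 := card_classes R (t := 2) (by rw [hR])
  obtain ⟨Y, δ, F, h1mem⟩ := X.exists_block
  have hcard : (others u 1 Y).card = 2 := (card_others F X.sit X.e_lt).trans hR
  obtain ⟨ψ, hψ⟩ := Finset.card_eq_one.1
    (show ((others u 1 Y).erase (trivialIrr G)).card = 1 by
      rw [Finset.card_erase_of_mem h1mem, hcard])
  have hψmem : ψ ∈ others u 1 Y ∧ ψ ≠ trivialIrr G := by
    have := Finset.mem_singleton_self ψ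
    rw [← hψ, Finset.mem_erase] at this
    exact ⟨this.2, this.1⟩
  have hs1 : sgn u (trivialIrr G) = 1 := if_pos rfl
  have hd1 : charDegree (trivialIrr G : G → ℂ) = 1 :=
    Nat.cast_injective (R := ℂ) (by rw [← charDeg_spec', Nat.cast_one]; rfl)
  have horth := orth_deg F X.sit X.e_lt
  rw [← Finset.add_sum_erase _ _ h1mem, hψ, Finset.sum_singleton, hs1, hd1] at horth
  push_cast at horth
  obtain ⟨ky, hky⟩ := exists_fix_fam F X.sit X.e_lt 1
  obtain ⟨kx, hkx⟩ := exists_fix_const X.sit ψ (sgn u ψ) fun i hi =>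
    others_val F X.sit X.e_lt hψmem.1 hi
  have hy2 := X.two_le_fam F 1
  have hx2 := X.two_le_deg hψmem.2
  rw [hR] at hky
  push_cast at hky hkx
  set x := charDegree (ψ : G → ℂ) with hxdef
  set y := charDegree (Y 1 : G → ℂ) with hydef
  have hdec : ∀ k : ℕ, k.Coprime (Nat.card G) → (k : ZMod 5) = 1 →
      (∀ z ∈ Subgroup.center G, z ^ k = z) →
      ∃ S SQ m₁ m n r : ℕ, (m₁ : ℂ) = classInner (mixed ζ k) (trivialIrr G : G → ℂ) ∧
        classInner (mixed ζ k) (mixed ζ k) = ((SQ + (m₁ ^ 2 + m ^ 2) + r : ℕ) : ℂ) ∧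
        SQ ≤ S * S ∧ S * S ≤ 2 * SQ ∧ r ≤ n * n ∧
        -(δ * 2) * (S : ℤ) + 4 * ((m₁ : ℤ) + sgn u ψ * m) = 6 ∧
        S * y + (m₁ + m * x) + 5 * n = 9 := by
    intro k hk hk5 hkz
    obtain ⟨M, m, n, r, D⟩ := exists_dec F X.sit X.e_lt (X.mixed_isChar hk) (X.mixed_center hkz)
      X.mixed_one
    refine ⟨∑ q, M q, ∑ q, M q ^ 2, m (trivialIrr G), m ψ, n, r, (D.inner _).symm, ?_, ?_, ?_, D.rest,
      ?_, ?_⟩
    · rw [D.norm, ← Finset.add_sum_erase _ _ h1mem, hψ, Finset.sum_singleton]
    · rw [← pow_two]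
      exact Finset.sum_sq_le_sq_sum_of_nonneg fun q _ => Nat.zero_le _
    · have := sq_sum_le_card_mul_sum_sq (s := Finset.univ) (f := M)
      rw [Finset.card_univ, hQ, pow_two] at this
      exact this
    · have h := D.total
      rw [Finset.sum_congr rfl fun i _ => X.mixed_values hk5 i, X.sum_sq_values, hR,
        ← Finset.add_sum_erase _ _ h1mem, hψ, Finset.sum_singleton, hs1] at h
      apply Int.cast_injective (α := ℂ)
      push_cast at h ⊢
      linear_combination -h
    · have h := D.degree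
      rw [← Finset.add_sum_erase _ _ h1mem, hψ, Finset.sum_singleton, hd1, hd, mul_one] at h
      exact h
  have hcases : (δ = 1 ∧ sgn u ψ = 1 ∧ 6 ≤ x ∧ 7 ≤ y) ∨
      (δ = -1 ∧ sgn u ψ = -1 ∧ 4 ≤ x ∧ 3 ≤ y) := by
    rcases F.sign with h | h <;> rcases sgn_cases (u := u) ψ with h' | h' <;>
      rw [h, h'] at horth <;> rw [h] at hky <;> rw [h'] at hkx <;> omega
  obtain ⟨S, SQ, m₁, m, n, r, hm₁, hnorm, hSQ, -, hr, hA, hB⟩ := hdec 1 (Nat.coprime_one_left _)
    (by simp) (fun z _ => pow_one z)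
  have hm1 : m₁ = 1 := by
    rcases X.mixed_trivial (Nat.coprime_one_left (Nat.card G)) with ⟨h, -⟩ | h
    · exact Nat.cast_injective (R := ℂ) (by rw [hm₁, h, Nat.cast_one])
    · exfalso
      rw [show mixed ζ 1 = fun g => (ζ : G → ℂ) g * conj ((ζ : G → ℂ) g) from
        funext fun g => by rw [mixed, pow_one]] at h
      refine one_ne_zero (α := ℂ) ?_
      rw [← classInner_self_irr ζ.2, ← h]
      simp [classInner, trivialIrr]
  obtain ⟨hδ, hs, hy3, hyx, hS1, hm0⟩ : δ = -1 ∧ sgn u ψ = -1 ∧ (y = 3 ∨ y = 8) ∧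
      (x : ℤ) = y + 1 ∧ S = 1 ∧ m = 0 := by
    rcases hcases with ⟨h, h', hx, hy⟩ | ⟨h, h', hx, hy⟩ <;> rw [h, h'] at hA horth <;>
      rw [h] at hky
    · have := Nat.mul_le_mul_left S hy
      have := Nat.mul_le_mul_left m hx
      omega
    · have := Nat.mul_le_mul_left S hy
      have := Nat.mul_le_mul_left m hx
      have hS : S = 1 := by omega
      have hm : m = 0 := by omega
      subst hS hm
      omega
  have hn1 : n ≤ 1 := by
    subst hS1 hm0
    omega
  refine ⟨?_, fun k hk hk5 hkz g => ?_⟩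
  · rcases hy3 with h | h
    · have h4 : x = 4 := by omega
      rw [← h4, hxdef]
      exact deg_dvd_quot ψ (mem_others.1 hψmem.1).1
    · exact (show 4 ∣ y by omega).trans (deg_dvd_quot (Y 1) (F.om 1))
  rcases X.mixed_trivial hk with ⟨-, h⟩ | h0
  · exact h g
  exfalso
  obtain ⟨S', SQ', m₁', m', n', r', hm₁', hnorm', -, hSQ', -, hA', hB'⟩ := hdec k hk hk5 hkz
  rw [h0, Nat.cast_eq_zero] at hm₁'
  have hle := X.mixed_norm_le hk hnorm' hnorm
  have hy : 3 ≤ y := by omega
  have hx : 4 ≤ x := by omega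
  have := Nat.mul_le_mul_left S' hy
  have := Nat.mul_le_mul_left m' hx
  rw [hδ, hs] at hA'
  obtain ⟨hS', hm'⟩ : S' = 3 ∧ m' = 0 := by omega
  subst hS1 hm0 hm1 hm₁' hS' hm'
  have := Nat.mul_le_mul hn1 hn1
  omega

theorem five_order :
    Nat.card (G ⧸ Subgroup.center G) = 60 ∨ Nat.card (G ⧸ Subgroup.center G) = 360 := by
  classical
  obtain ⟨h4, hfix⟩ := X.five_block hd
  have hR : Nat.card R = 2 := by
    have := X.deg
    omega
  haveI : Fact (Nat.Prime 2) := ⟨Nat.prime_two⟩
  haveI : Fact (Nat.Prime 3) := ⟨Nat.prime_three⟩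
  haveI : Fact (Nat.Prime 7) := ⟨by norm_num⟩
  set H := G ⧸ Subgroup.center G
  obtain ⟨m, hm, hcard⟩ := exists_index X.sit
  rw [hR] at hcard
  -- the `2`-part
  have h2 : (Nat.card H).factorization 2 ≤ 3 := by
    refine (fact_bound X.isChar [-2, -1, 0, 1, 2] (C := 120) (by norm_num) (fun g hg => ?_) ?_).trans
      (fact_le_of Nat.prime_two (by norm_num) (by norm_num))
    · obtain ⟨j, hj⟩ := hg
      obtain ⟨i, -, hi⟩ := (Nat.dvd_prime_pow Nat.prime_two).1 (orderOf_dvd_of_pow_eq_one hj)
      have hcop : (orderOf g).Coprime (5 * charDegree (ζ : G → ℂ)) := by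
        rw [hi, hd]
        exact Nat.Coprime.pow_left i (by norm_num)
      obtain ⟨n, hn, hlo, hhi, hz⟩ := X.int_value hfix g hcop
      rw [hd] at hlo hhi hz
      by_cases h3 : n = 3 ∨ n = -3
      · have hgz : g ∈ Subgroup.center G := hz (by push_cast; exact h3)
        have hg1 := X.center_eq_one_of_coprime Nat.prime_two (by rw [hd]; norm_num) ⟨j, hj⟩ hgz
        refine Or.inl ⟨hgz, ?_⟩
        rw [hg1, charDeg_spec', hd]
        norm_num
      · refine Or.inr ?_
        rw [hn]
        push_cast at hlo hhi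
        interval_cases n <;> first | omega | norm_num
    · rw [charDeg_spec', hd]
      norm_num
  -- the `3`-part
  have h3 : (Nat.card H).factorization 3 ≤ 4 := by
    refine (fact_bound (χ := mixed ζ 1) (X.mixed_isChar (Nat.coprime_one_left _))
      [0, 1, 2, 3, 4, 5, 6, 7, 8] (C := 362880) (by norm_num) (fun g hg => ?_) ?_).trans
      (fact_le_of Nat.prime_three (by norm_num) (by norm_num))
    · obtain ⟨j, hj⟩ := hg
      obtain ⟨i, -, hi⟩ := (Nat.dvd_prime_pow Nat.prime_three).1 (orderOf_dvd_of_pow_eq_one hj)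
      have key : ∀ k : ℕ, k.Coprime (orderOf g) → k % 3 = 1 →
          (ζ : G → ℂ) (g ^ k) = (ζ : G → ℂ) g := by
        intro k hk hk3
        rcases Nat.eq_zero_or_pos i with rfl | hi0
        · rw [pow_zero, orderOf_eq_one_iff] at hi
          rw [hi, one_pow]
        have hc5 : (orderOf g).Coprime 5 := by rw [hi]; exact Nat.Coprime.pow_left i (by norm_num)
        set b : ℕ := (Nat.chineseRemainder hc5 k 1 : ℕ)
        have hb1 : b ≡ k [MOD orderOf g] := (Nat.chineseRemainder hc5 k 1).2.1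
        have hb2 : b ≡ 1 [MOD 5] := (Nat.chineseRemainder hc5 k 1).2.2
        have hb3 : b ≡ 1 [MOD 3] :=
          (Nat.ModEq.of_dvd (hi ▸ dvd_pow_self 3 hi0.ne') hb1).trans (by rw [Nat.ModEq]; omega)
        have hb15 : b ≡ 1 [MOD 5 * 3] :=
          (Nat.modEq_and_modEq_iff_modEq_mul (by norm_num)).1 ⟨hb2, hb3⟩
        rw [← show g ^ b = g ^ k from pow_eq_pow_iff_modEq.2 hb1]
        refine X.lift_fix hfix g ?_ (by rw [hd]; exact hb15)
        rw [Nat.coprime_iff_gcd_eq_one, Nat.ModEq.gcd_eq hb1]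
        exact hk
      have hv : ∀ k : ℕ, k.Coprime (orderOf g) → mixed ζ 1 (g ^ k) = mixed ζ 1 g := by
        intro k hk
        simp only [mixed, pow_one]
        rcases Nat.eq_zero_or_pos i with rfl | hi0
        · rw [pow_zero, orderOf_eq_one_iff] at hi
          rw [hi, one_pow]
        have h30 : k % 3 ≠ 0 := fun h => by
          have := Nat.Coprime.coprime_dvd_right (hi ▸ dvd_pow_self 3 hi0.ne') hk
          exact (Nat.prime_three.coprime_iff_not_dvd.1 this.symm) (Nat.dvd_of_mod_eq_zero h)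
        rcases (show k % 3 = 1 ∨ k % 3 = 2 by omega) with h | h
        · rw [key k hk h]
        have hog : 1 ≤ orderOf g := orderOf_pos g
        have hinv : g ^ (k * (orderOf g - 1)) = (g ^ k)⁻¹ := by
          refine eq_inv_of_mul_eq_one_right ?_
          rw [← pow_add, show k + k * (orderOf g - 1) = orderOf g * k by
            conv_rhs => rw [show orderOf g = orderOf g - 1 + 1 by omega]
            ring, pow_mul, pow_orderOf_eq_one, one_pow]
        have hk' : (k * (orderOf g - 1)) % 3 = 1 := by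
          have h1 : 3 ∣ orderOf g := hi ▸ dvd_pow_self 3 hi0.ne'
          have h2 : (orderOf g - 1) % 3 = 2 := by omega
          rw [Nat.mul_mod, h, h2]
        have hcop' : (k * (orderOf g - 1)).Coprime (orderOf g) := by
          refine Nat.Coprime.mul_left hk ?_
          exact (Nat.coprime_self_sub_left hog).2 (Nat.coprime_one_left _)
        have e := key _ hcop' hk'
        rw [hinv, IsChar.apply_inv X.isChar] at e
        rw [← e, Complex.conj_conj]
        ring
      obtain ⟨n, hn⟩ := IsChar.exists_int_of_fixed (X.mixed_isChar (Nat.coprime_one_left _)) g hv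
      have hnle : (n : ℝ) = ‖(ζ : G → ℂ) g‖ ^ 2 := by
        have h := congrArg Complex.re hn
        rw [Complex.intCast_re, mixed, pow_one, Complex.mul_conj, Complex.ofReal_re,
          Complex.normSq_eq_norm_sq] at h
        exact h.symm
      have hb := X.norm_le g
      rw [hd] at hb
      push_cast at hb
      have hn0 : 0 ≤ n := by
        have : (0 : ℝ) ≤ (n : ℝ) := hnle ▸ sq_nonneg _
        exact_mod_cast this
      have hn9 : n ≤ 9 := by
        have h9 : (n : ℝ) ≤ 9 := by
          rw [hnle]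
          nlinarith [norm_nonneg ((ζ : G → ℂ) g)]
        exact_mod_cast h9
      rcases eq_or_lt_of_le hn9 with rfl | hlt
      · refine Or.inl ⟨X.center_of_norm ?_, ?_⟩
        · rw [hd]
          push_cast at hnle ⊢
          nlinarith [norm_nonneg ((ζ : G → ℂ) g)]
        · rw [hn]
          norm_num
      · refine Or.inr ?_
        rw [hn]
        interval_cases n <;> norm_num
    · rw [X.mixed_one, hd]
      norm_num
  -- the primes
  have h5 : (Nat.card H).factorization 5 = 1 := by
    refine le_antisymm ?_ ?_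
    · by_contra hlt
      have h25 : 5 ^ 2 ∣ Nat.card H := ((Nat.Prime.pow_dvd_iff_le_factorization (by norm_num)
        Nat.card_pos.ne')).2 (by omega)
      exact X.not_sq_dvd (h25.trans (Subgroup.card_quotient_dvd_card _))
    · rw [← (show Nat.Prime 5 by norm_num).pow_dvd_iff_le_factorization Nat.card_pos.ne', pow_one,
        hcard]
      exact ⟨2 * m, by ring⟩
  have hprimes : ∀ q : ℕ, q.Prime → q ≠ 2 → q ≠ 3 → q ≠ 5 → ¬ q ∣ Nat.card H := by
    intro q hq h2' h3' h5' hdvd
    have hqG := hdvd.trans (Subgroup.card_quotient_dvd_card (Subgroup.center G))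
    rcases Nat.lt_or_ge 7 q with h7 | h7
    · exact X.no_large_prime (by omega) hq h7 h5' hqG
    obtain rfl : q = 7 := by
      have := hq.two_le
      interval_cases q <;> first | rfl | omega | exact absurd hq (by norm_num)
    let P : Sylow 7 G := default
    obtain ⟨iso⟩ := seven_three ζ X.faith hd P
      (X.sylow_not_normal (by norm_num) (by rw [hd]; norm_num) hqG P)
    have h168 := card_psl_prime 7 (by decide)
    rw [← Nat.card_congr iso.toEquiv, hcard] at h168
    omega
  have hdvd : Nat.card H ∣ 3240 := by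
    rw [← Nat.factorization_le_iff_dvd Nat.card_pos.ne' (by norm_num)]
    intro q
    by_cases hq : q.Prime
    swap
    · rw [Nat.factorization_eq_zero_of_not_prime _ hq]
      exact Nat.zero_le _
    by_cases hq2 : q = 2
    · subst hq2
      exact h2.trans ((Nat.prime_two.pow_dvd_iff_le_factorization (by norm_num)).1 (by norm_num))
    by_cases hq3 : q = 3
    · subst hq3
      exact h3.trans ((Nat.prime_three.pow_dvd_iff_le_factorization (by norm_num)).1 (by norm_num))
    by_cases hq5 : q = 5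
    · subst hq5
      exact h5.le.trans ((hq.pow_dvd_iff_le_factorization (by norm_num)).1 (by norm_num))
    rw [Nat.factorization_eq_zero_of_not_dvd (hprimes q hq hq2 hq3 hq5)]
    exact Nat.zero_le _
  rw [hcard] at hdvd h4 ⊢
  have hmd : m ∈ Nat.divisors 324 := Nat.mem_divisors.2
    ⟨Nat.dvd_of_mul_dvd_mul_left (show 0 < 10 by norm_num) (by simpa using hdvd), by norm_num⟩
  have hall : ∀ a ∈ Nat.divisors 324, a % 5 = 1 → a = 1 ∨ a = 6 ∨ a = 36 ∨ a = 81 := by decide
  have hm5 : m % 5 = 1 := hm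
  rcases hall m hmd hm5 with rfl | rfl | rfl | rfl <;> omega

theorem five_iso :
    Nonempty (G ⧸ Subgroup.center G ≃* Matrix.ProjectiveSpecialLinearGroup (Fin 2) (ZMod 5)) ∨
      Nonempty (G ⧸ Subgroup.center G ≃* alternatingGroup (Fin 6)) := by
  haveI := X.quot_simple
  rcases X.five_order hd with h | h
  · refine Or.inl (OrdP.iso_psl_of_card (p := 5) (m := 12) (ZMod.card 5) le_rfl (by rw [h])
      (by norm_num) (fun k hk hdv => ?_) fun q hq => ?_)
    · have := Nat.le_of_dvd (by norm_num) hdv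
      have hk2 : k ≤ 2 := by omega
      interval_cases k <;> omega
    · rcases Nat.lt_or_ge q 3 with h3 | h3
      · interval_cases q <;> simp at hq
      · have h8 := Nat.pow_le_pow_right (n := 2) (by norm_num) h3
        omega
  · exact Or.inr (Cfsg.Agent.S0497.result h)

end Exc

end Cfsg.Agent.Block.Deg26
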