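import Mathlib

/-!
The degrees and multiplicities in the principal block for `p = 7`, `e = 3`.
-/

set_option autoImplicit false
set_option maxHeartbeats 4000000

namespace Cfsg.Agent.Block.Deg26

/-- The possible signs and residues. -/
def Resid (δ s s' : ℤ) (x x' y : ℕ) : Prop :=
  ((δ = 1 ∧ y % 7 = 3) ∨ (δ = -1 ∧ y % 7 = 4)) ∧
    ((s = 1 ∧ x % 7 = 1 ∧ 8 ≤ x) ∨ (s = -1 ∧ x % 7 = 6 ∧ 6 ≤ x)) ∧
    ((s' = 1 ∧ x' % 7 = 1 ∧ 8 ≤ x') ∨ (s' = -1 ∧ x' % 7 = 6 ∧ 6 ≤ x')) ∧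
    δ * (y : ℤ) = 1 + (s * (x : ℤ) + s' * (x' : ℤ))

theorem seven_one {δ s s' : ℤ} {x x' y M m m' n r : ℕ} (h : Resid δ s s' x x' y)
    (hA : -(δ * 3) * (2 * (M : ℤ)) + 6 * (1 + (s * (m : ℤ) + s' * (m' : ℤ))) = 12)
    (hB : 2 * M * y + (1 + (m * x + m' * x')) + 7 * n = 16) (hr : r ≤ n * n) :
    (((x = 8 ∧ s = 1) ∨ (x' = 8 ∧ s' = 1) ∨ x = 15 ∨ x' = 15) ∧
        2 ≤ 2 * M ^ 2 + (1 + (m ^ 2 + m' ^ 2)) + r ∧ 2 * M ^ 2 + (1 + (m ^ 2 + m' ^ 2)) + r ≤ 3) ∨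
      (δ = -1 ∧ y = 4 ∧ 2 ≤ 2 * M ^ 2 + (1 + (m ^ 2 + m' ^ 2)) + r ∧
        2 * M ^ 2 + (1 + (m ^ 2 + m' ^ 2)) + r ≤ 4) := by
  obtain ⟨hy, hx, hx', ho⟩ := h
  have hy3 : 3 ≤ y := by omega
  have hx6 : 6 ≤ x := by omega
  have hx6' : 6 ≤ x' := by omega
  have h1 := Nat.mul_le_mul_left (2 * M) hy3
  have h2 := Nat.mul_le_mul_left m hx6
  have h3 := Nat.mul_le_mul_left m' hx6'
  have hM : M ≤ 2 := by omega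
  have hm : m ≤ 2 := by omega
  have hm' : m' ≤ 2 := by omega
  have hn : n ≤ 2 := by omega
  have hnn : (n = 0 ∧ r = 0) ∨ (n = 1 ∧ r ≤ 1) ∨ (n = 2 ∧ r ≤ 4) := by
    interval_cases n <;> omega
  clear hr
  rcases hy with ⟨rfl, hy⟩ | ⟨rfl, hy⟩ <;> rcases hx with ⟨rfl, hx, hxb⟩ | ⟨rfl, hx, hxb⟩ <;>
    rcases hx' with ⟨rfl, hx', hxb'⟩ | ⟨rfl, hx', hxb'⟩ <;>
    interval_cases M <;> interval_cases m <;> interval_cases m' <;> omega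

theorem seven_zero {δ s s' : ℤ} {x x' y M m m' n : ℕ} (h : Resid δ s s' x x' y)
    (hA : -(δ * 3) * (2 * (M : ℤ)) + 6 * (0 + (s * (m : ℤ) + s' * (m' : ℤ))) = 12)
    (hB : 2 * M * y + (0 + (m * x + m' * x')) + 7 * n = 16) (r : ℕ) :
    x = 13 ∨ x' = 13 ∨ y = 17 ∨ 5 ≤ 2 * M ^ 2 + (0 + (m ^ 2 + m' ^ 2)) + r ∨
      (4 ≤ 2 * M ^ 2 + (0 + (m ^ 2 + m' ^ 2)) + r ∧ ¬ (δ = -1 ∧ y = 4)) := by
  obtain ⟨hy, hx, hx', ho⟩ := h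
  have hy3 : 3 ≤ y := by omega
  have hx6 : 6 ≤ x := by omega
  have hx6' : 6 ≤ x' := by omega
  have h1 := Nat.mul_le_mul_left (2 * M) hy3
  have h2 := Nat.mul_le_mul_left m hx6
  have h3 := Nat.mul_le_mul_left m' hx6'
  have hM : M ≤ 2 := by omega
  have hm : m ≤ 2 := by omega
  have hm' : m' ≤ 2 := by omega
  rcases hy with ⟨rfl, hy⟩ | ⟨rfl, hy⟩ <;> rcases hx with ⟨rfl, hx, hxb⟩ | ⟨rfl, hx, hxb⟩ <;>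
    rcases hx' with ⟨rfl, hx', hxb'⟩ | ⟨rfl, hx', hxb'⟩ <;>
    interval_cases M <;> interval_cases m <;> interval_cases m' <;> omega

theorem two_pow_mod_seven (a : ℕ) :
    (a % 3 = 0 ∧ 2 ^ a % 7 = 1) ∨ (a % 3 = 1 ∧ 2 ^ a % 7 = 2) ∨ (a % 3 = 2 ∧ 2 ^ a % 7 = 4) := by
  induction a with
  | zero => simp
  | succ a ih =>
    rw [pow_succ]
    omega

/-- A degree `3` among degrees with odd part `1` or `3`. -/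
theorem seven_degree_three {δ s s' : ℤ} {x x' y : ℕ} (h : Resid δ s s' x x' y)
    (hxo : x % 2 = 1 → x ≤ 3) (hxo' : x' % 2 = 1 → x' ≤ 3) (hyo : y % 2 = 1 → y ≤ 3)
    (h8 : (x = 8 ∧ s = 1) ∨ (x' = 8 ∧ s' = 1) ∨ x = 15 ∨ x' = 15 ∨ (δ = -1 ∧ y = 4)) : y = 3 := by
  obtain ⟨hy, hx, hx', ho⟩ := h
  rcases hy with ⟨rfl, hy⟩ | ⟨rfl, hy⟩ <;> rcases hx with ⟨rfl, hx, hxb⟩ | ⟨rfl, hx, hxb⟩ <;>
    rcases hx' with ⟨rfl, hx', hxb'⟩ | ⟨rfl, hx', hxb'⟩ <;> omega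

end Cfsg.Agent.Block.Deg26
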