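import Mathlib
import Cfsg.Agent.Lib.Block.Deg26.Tools

/-!
An element with four simple eigenvalues and a constant character on its translates: the element is
a scalar.
-/

set_option autoImplicit false
set_option linter.unusedSectionVars false
set_option linter.style.haveILetI false
set_option maxHeartbeats 800000

namespace Cfsg.Agent.Block.Deg26

open scoped ComplexConjugate
open scoped _root_.Classical
open Cfsg Cfsg.Agent.Block Cfsg.Agent.Char Cfsg.Agent.Char.DefectOne Cfsg.Agent.Char.SmallDeg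
  Cfsg.Agent.Block.PMinusTwo Cfsg.Agent.Block.SmallFaith Cfsg.Agent.Block.Deg16 Module

universe w

variable {G : Type w} [Group G] [Fintype G]

/-- The sum over the powers of an element of prime order is a multiple of the order. -/
theorem exists_fix_order {q : ℕ} [hq : Fact q.Prime] {t : G} (ht : orderOf t = q) {Φ : G → ℂ}
    (hΦ : IsCharacter G Φ) : ∃ k : ℕ, ∑ i : ZMod q, Φ (pw t i) = (q : ℂ) * k := by
  classical
  have hne : t ≠ 1 := fun e => hq.out.one_lt.ne (by rw [← ht, e, orderOf_one])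
  obtain ⟨m, hm⟩ := exists_pmult (p := q) (P := Subgroup.zpowers t) (by rw [Nat.card_zpowers, ht])
    (Subgroup.mem_zpowers t) hne hΦ
  refine ⟨m 0, ?_⟩
  simp only [hm]
  rw [Finset.sum_comm, Finset.sum_eq_single (0 : ZMod q)]
  · simp [mul_comm]
  · intro l _ hl
    rw [← Finset.mul_sum, ψc_sum, if_neg hl, mul_zero]
  · exact fun h => absurd (Finset.mem_univ _) h

/-- A rank one projection commuting with `T`, with `trace (T P) = 0`, annihilates `T`. -/
theorem proj_annihilates {V : Type} [AddCommGroup V] [Module ℂ V] [FiniteDimensional ℂ V]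
    {P T : Module.End ℂ V} (hP : P * P = P) (htr : LinearMap.trace ℂ V P = 0 ∨ LinearMap.trace ℂ V P = 1)
    (hcomm : T * P = P * T) (hT : LinearMap.trace ℂ V (T * P) = 0) : T * P = 0 := by
  have hproj : LinearMap.IsProj (LinearMap.range P) P := by
    refine ⟨fun x => LinearMap.mem_range_self P x, fun x hx => ?_⟩
    obtain ⟨y, rfl⟩ := hx
    exact LinearMap.congr_fun hP y
  have hr : LinearMap.trace ℂ V P = (finrank ℂ (LinearMap.range P) : ℂ) := hproj.trace
  rcases htr with h | h <;> rw [hr] at h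
  · rw [LinearMap.range_eq_bot.1 (Submodule.finrank_eq_zero.1 (Nat.cast_eq_zero.1 h)), mul_zero]
  obtain ⟨⟨w, hw⟩, hw0, hspan⟩ := finrank_eq_one_iff'.1 (Nat.cast_eq_one.1 h)
  have hPw : P w = w := hproj.map_id _ hw
  obtain ⟨l, hl⟩ := hspan ⟨T w, T w, by
    have e := LinearMap.congr_fun hcomm w
    rw [Module.End.mul_apply, Module.End.mul_apply, hPw] at e
    exact e.symm⟩
  have hl' : T w = l • w := (congrArg Subtype.val hl).symm
  have hTP : T * P = l • P := by
    refine LinearMap.ext fun x => ?_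
    obtain ⟨c, hc⟩ := hspan ⟨P x, LinearMap.mem_range_self P x⟩
    have hc' : P x = c • w := (congrArg Subtype.val hc).symm
    rw [Module.End.mul_apply, LinearMap.smul_apply, hc', map_smul, hl', smul_comm]
  rw [hTP, map_smul, hr, Nat.cast_eq_one.1 h, Nat.cast_one, smul_eq_mul, mul_one] at hT
  rw [hTP, hT, zero_smul]

/-- An element commuting with `s`, with equal values on its translates by the powers of `s`, is a
scalar. -/
theorem scalar_of_translates [hfive : Fact (Nat.Prime 5)] {n : ℕ} (hn : n = 4)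
    (ρ : Representation ℂ G (Fin n → ℂ)) {s g : G} (hs : orderOf s = 5) (hcomm : g * s = s * g)
    (hval : ∀ i : ZMod 5, i ≠ 0 → ρ.character (pw s i) = -1) {c : ℂ}
    (hc : ∀ i : ZMod 5, i ≠ 0 → ρ.character (pw s i * g) = c) :
    ∃ t : ℂ, ρ g = t • LinearMap.id := by
  classical
  have hs1 : s ≠ 1 := fun e => by rw [e, orderOf_one] at hs; norm_num at hs
  have hP : Nat.card (Subgroup.zpowers s) = 5 := by rw [Nat.card_zpowers, hs]
  have hadd : ∀ i j : ZMod 5, ρ (pw s i) * ρ (pw s j) = ρ (pw s (i + j)) := fun i j => by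
    rw [← map_mul, pw, pw, pw, ← pow_add]
    refine congrArg ρ (pow_eq_pow_iff_modEq.2 ?_)
    rw [hs, ← ZMod.natCast_eq_natCast_iff]
    simp
  have h0 : ρ (pw s (0 : ZMod 5)) = 1 := by rw [pw, ZMod.val_zero, pow_zero, map_one]
  let E : ZMod 5 → Module.End ℂ (Fin n → ℂ) := fun k =>
    (5 : ℂ)⁻¹ • ∑ i : ZMod 5, (ψc (i * k) : ℂ) • ρ (pw s i)
  have hEE : ∀ k, E k * E k = E k := by
    intro k
    simp only [E, smul_mul_smul_comm, Finset.sum_mul_sum, hadd, ← AddChar.map_add_eq_mul, ← add_mul]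
    have hre : ∀ i : ZMod 5, ∑ j : ZMod 5, (ψc ((i + j) * k) : ℂ) • ρ (pw s (i + j)) =
        ∑ j : ZMod 5, (ψc (j * k) : ℂ) • ρ (pw s j) := fun i =>
      Equiv.sum_comp (Equiv.addLeft i) (fun j => (ψc (j * k) : ℂ) • ρ (pw s j))
    rw [Finset.sum_congr rfl fun i _ => hre i,
      Finset.sum_const, Finset.card_univ, ZMod.card, ← Nat.cast_smul_eq_nsmul ℂ, smul_smul]
    norm_num
  have hsum : ∑ k, E k = 1 := by
    simp only [E, ← Finset.smul_sum]
    rw [Finset.sum_comm]
    simp only [← Finset.sum_smul]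
    rw [Finset.sum_eq_single (0 : ZMod 5)]
    · rw [h0, smul_smul]
      simp
    · intro i _ hi
      rw [Finset.sum_congr rfl fun k _ => by rw [mul_comm i k], ψc_sum, if_neg hi, zero_smul]
    · exact fun h => absurd (Finset.mem_univ _) h
  have htrE : ∀ k, LinearMap.trace ℂ _ (E k) = if k = 0 then 0 else 1 := by
    intro k
    simp only [E, map_smul, map_sum]
    rw [← Finset.add_sum_erase _ _ (Finset.mem_univ (0 : ZMod 5)),
      Finset.sum_congr rfl (g := fun i => -(ψc (i * k) : ℂ)) fun i hi => by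
        have h := hval i (Finset.ne_of_mem_erase hi)
        rw [Representation.character] at h
        rw [h, smul_eq_mul, mul_neg, mul_one],
      Finset.sum_neg_distrib, Finset.sum_erase_eq_sub (Finset.mem_univ _), ψc_sum, h0,
      LinearMap.trace_one, finrank_fin_fun, hn, zero_mul, AddChar.map_zero_eq_one]
    split_ifs <;> norm_num
  set t : ℂ := -c with ht
  have hE0 : E 0 = 0 := by
    have hproj : LinearMap.IsProj (LinearMap.range (E 0)) (E 0) := by
      refine ⟨fun x => LinearMap.mem_range_self _ x, fun x hx => ?_⟩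
      obtain ⟨y, rfl⟩ := hx
      exact LinearMap.congr_fun (hEE 0) y
    have h := htrE 0
    rw [if_pos rfl, hproj.trace, Nat.cast_eq_zero] at h
    exact LinearMap.range_eq_bot.1 (Submodule.finrank_eq_zero.1 h)
  set T : Module.End ℂ (Fin n → ℂ) := ρ g - t • LinearMap.id
  have hcs : ∀ i : ZMod 5, ρ g * ρ (pw s i) = ρ (pw s i) * ρ g := fun i => by
    rw [← map_mul, ← map_mul, pw, ((show Commute g s from hcomm).pow_right _).eq]
  have hg0 : LinearMap.trace ℂ _ (ρ g) = 4 * t := by
    have h : LinearMap.trace ℂ _ (ρ g * E 0) = 0 := by rw [hE0, mul_zero, map_zero]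
    simp only [E, mul_zero, AddChar.map_zero_eq_one, one_smul, mul_smul_comm, Finset.mul_sum,
      map_smul, map_sum] at h
    rw [← Finset.add_sum_erase _ _ (Finset.mem_univ (0 : ZMod 5)), h0, mul_one,
      Finset.sum_congr rfl (g := fun _ => c) fun i hi => by
        rw [hcs, ← map_mul]
        exact hc i (Finset.ne_of_mem_erase hi),
      Finset.sum_const, Finset.card_erase_of_mem (Finset.mem_univ _), Finset.card_univ, ZMod.card,
      smul_eq_mul, mul_eq_zero] at h
    have h' := h.resolve_left (by norm_num)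
    rw [nsmul_eq_mul] at h'
    push_cast at h'
    rw [ht]
    linear_combination h'
  have hTE : ∀ k, T * E k = 0 := by
    intro k
    refine proj_annihilates (hEE k) ?_ ?_ ?_
    · rw [htrE]
      split_ifs
      · exact Or.inl rfl
      · exact Or.inr rfl
    · simp only [E, T, mul_smul_comm, smul_mul_assoc, Finset.mul_sum, Finset.sum_mul, sub_mul,
        mul_sub, ← Module.End.one_eq_id, one_mul, mul_one, hcs]
      simp only [smul_sub, Finset.sum_sub_distrib, Finset.smul_sum, smul_comm t]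
    · simp only [E, mul_smul_comm, Finset.mul_sum, map_smul, map_sum]
      rw [Finset.sum_eq_zero fun i _ => ?_, smul_zero]
      rw [show LinearMap.trace ℂ _ (T * ρ (pw s i)) = 0 from ?_, smul_zero]
      simp only [T, sub_mul, map_sub, smul_mul_assoc, map_smul, ← Module.End.one_eq_id, one_mul]
      by_cases hi : i = 0
      · rw [hi, h0, mul_one, hg0, LinearMap.trace_one, finrank_fin_fun, hn, smul_eq_mul]
        push_cast
        ring
      · rw [hcs, ← map_mul, show LinearMap.trace ℂ _ (ρ (pw s i * g)) = c from hc i hi,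
          show LinearMap.trace ℂ _ (ρ (pw s i)) = -1 from hval i hi, ht, smul_eq_mul]
        ring
  refine ⟨t, sub_eq_zero.1 ?_⟩
  show T = 0
  rw [← mul_one T, ← hsum, Finset.mul_sum, Finset.sum_eq_zero fun k _ => hTE k]

namespace Exc

variable [hp : Fact (Nat.Prime 7)] {u : G} {R : Subgroup (ZMod 7)ˣ} {ζ : IrrCharacter G}
  (X : Exc 7 u R ζ) (hd : charDegree (ζ : G → ℂ) = 4)
  (hfix : ∀ k : ℕ, k.Coprime (Nat.card G) → (k : ZMod 7) = 1 →
    (∀ z ∈ Subgroup.center G, z ^ k = z) → ∀ g, (ζ : G → ℂ) (g ^ k) = (ζ : G → ℂ) g)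
include X hd hfix

/-- The value at an element of order `q`, `q ∈ {3, 5}`. -/
theorem order_value {q : ℕ} [hq : Fact q.Prime] (hq' : q = 3 ∨ q = 5) {t : G} (ht : orderOf t = q) :
    ∃ (n : ℤ) (k : ℕ), (ζ : G → ℂ) t = n ∧ -4 < n ∧ n < 4 ∧ 4 + ((q : ℤ) - 1) * n = q * k ∧
      ∀ i : ZMod q, i ≠ 0 → (ζ : G → ℂ) (pw t i) = n := by
  classical
  have hcop : (orderOf t).Coprime (7 * charDegree (ζ : G → ℂ)) := by
    rw [ht, hd]
    rcases hq' with rfl | rfl <;> norm_num
  obtain ⟨n, hn, hlo, hhi, hz⟩ := X.int_value hfix t hcop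
  rw [hd] at hlo hhi hz
  have hnz : t ∉ Subgroup.center G := fun h => by
    have h1 := X.center_eq_one_of_coprime hq.out (by rw [hd]; rcases hq' with rfl | rfl <;> norm_num)
      ⟨1, by rw [pow_one, ← ht, pow_orderOf_eq_one]⟩ h
    rw [h1, orderOf_one] at ht
    exact hq.out.ne_one ht.symm
  have hval : ∀ i : ZMod q, i ≠ 0 → (ζ : G → ℂ) (pw t i) = n := fun i hi => by
    rw [pw, X.pow_fixed hfix t hcop ?_, hn]
    rw [ht]
    exact ((hq.out.coprime_iff_not_dvd).2 fun h => hi ((ZMod.val_eq_zero i).1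
      (Nat.eq_zero_of_dvd_of_lt h (ZMod.val_lt i)))).symm
  obtain ⟨k, hk⟩ := exists_fix_order ht X.isChar
  rw [← Finset.add_sum_erase _ _ (Finset.mem_univ (0 : ZMod q)),
    Finset.sum_congr rfl fun i hi => hval i (Finset.ne_of_mem_erase hi), Finset.sum_const,
    Finset.card_erase_of_mem (Finset.mem_univ _), Finset.card_univ, ZMod.card, nsmul_eq_mul,
    show pw t (0 : ZMod q) = 1 by simp [pw], charDeg_spec', hd, Nat.cast_sub hq.out.one_le] at hk
  push_cast at hlo hhi hz hk
  refine ⟨n, k, hn, ?_, ?_, Int.cast_injective (α := ℂ) (by push_cast; linear_combination hk), hval⟩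
  · rcases eq_or_lt_of_le hlo with h | h
    · exact absurd (hz (Or.inr h.symm)) hnz
    · exact h
  · rcases eq_or_lt_of_le hhi with h | h
    · exact absurd (hz (Or.inl h)) hnz
    · exact h

theorem value_five [Fact (Nat.Prime 5)] {s : G} (hs : orderOf s = 5) (i : ZMod 5) (hi : i ≠ 0) :
    (ζ : G → ℂ) (pw s i) = -1 := by
  obtain ⟨n, k, -, h1, h2, hk, hval⟩ := X.order_value hd hfix (Or.inr rfl) hs
  rw [hval i hi]
  have : n = -1 := by push_cast at hk; omega
  rw [this]
  norm_num

theorem value_three [Fact (Nat.Prime 3)] {t : G} (ht : orderOf t = 3) :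
    ∃ n : ℤ, (ζ : G → ℂ) t = n ∧ n ≠ 0 ∧ -4 < n ∧ n < 4 := by
  obtain ⟨n, k, hn, h1, h2, hk, -⟩ := X.order_value hd hfix (Or.inl rfl) ht
  refine ⟨n, hn, fun h => ?_, h1, h2⟩
  rw [h] at hk
  push_cast at hk
  omega

/-- An element centralizing an element of order five is in `⟨s⟩Z`. -/
theorem cent_five [h5 : Fact (Nat.Prime 5)] (hsq : ¬ 5 ^ 2 ∣ Nat.card G) {s : G} (hs : orderOf s = 5)
    {g : G} (hg : g * s = s * g) : ∃ (i : ℕ) (z : G), z ∈ Subgroup.center G ∧ g = s ^ i * z := by
  classical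
  have hsz : s ∉ Subgroup.center G := fun h => by
    have h1 := X.center_eq_one_of_coprime h5.out (by rw [hd]; norm_num)
      ⟨1, by rw [pow_one, ← hs, pow_orderOf_eq_one]⟩ h
    rw [h1, orderOf_one] at hs
    norm_num at hs
  have core : ∀ y : G, y * s = s * y → ¬ 5 ∣ orderOf y → y ∈ Subgroup.center G := by
    intro y hy h5y
    have h7 : ¬ 7 ∣ orderOf y := by
      intro h7
      obtain ⟨k, i, z, hi, hz, rfl⟩ := X.sit.exists_form h7
      set s' := k⁻¹ * s * k
      have hs'o : orderOf s' = 5 := by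
        rw [show s' = MulAut.conj k⁻¹ s by simp [s'], MulEquiv.orderOf_eq, hs]
      have h1 : Commute s' (pw u i) := by
        have h2 : Commute s' (pw u i * z) := by
          have := congrArg (fun e => k⁻¹ * e * k) hy.symm
          show _ = _
          simpa [s', mul_assoc] using this
        have h3 := h2.mul_right (show Commute s' z⁻¹ from Subgroup.mem_center_iff.1 (inv_mem hz) s')
        rwa [mul_inv_cancel_right] at h3
      have h4 : s' * u = u * s' := by
        have h5' := (h1.pow_right ((i⁻¹ : ZMod 7).val)).eq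
        rwa [pw_pow X.sit.cardP (Subgroup.mem_zpowers u) X.sit.u_ne, ZMod.natCast_zmod_val,
          mul_inv_cancel₀ hi, X.sit.pw_one'] at h5'
      obtain ⟨a, w, hw, he⟩ := X.sit.cent s' h4
      have h7' : s' ^ 7 ∈ Subgroup.center G := by
        rw [he, (show Commute (u ^ a) w from Subgroup.mem_center_iff.1 hw _).mul_pow, ← pow_mul,
          mul_comm a, pow_mul, X.u_pow, one_pow, one_mul]
        exact pow_mem hw 7
      have h15 : s' ^ 5 = 1 := hs'o ▸ pow_orderOf_eq_one s'
      have hs'z : s' ∈ Subgroup.center G := by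
        have h21 : (s' ^ 7) ^ 3 = s' := by
          rw [← pow_mul, show 7 * 3 = 5 * 4 + 1 from rfl, pow_succ, pow_mul, h15, one_pow, one_mul]
        rw [← h21]
        exact pow_mem h7' 3
      refine hsz ?_
      have := (inferInstance : (Subgroup.center G).Normal).conj_mem _ hs'z k
      rwa [show k * s' * k⁻¹ = s by simp only [s']; group] at this
    obtain ⟨m, ρ, hρ, hχ, h1, -⟩ := IsIrr.exists_rep ζ.2
    haveI := hρ
    have hm : m = 4 :=
      Nat.cast_injective (R := ℂ) (by rw [← h1, charDeg_spec', hd])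
    have hcop : Nat.Coprime (orderOf y) 5 := (h5.out.coprime_iff_not_dvd.2 h5y).symm
    have hl : (Nat.lcm (orderOf y) 28).Coprime 5 := by
      refine Nat.Coprime.coprime_dvd_left ?_ (Nat.Coprime.mul_left hcop (by norm_num : Nat.Coprime 28 5))
      exact Nat.lcm_dvd (dvd_mul_right _ _) (dvd_mul_left _ _)
    have hval : ∀ i : ZMod 5, i ≠ 0 → (ζ : G → ℂ) (pw s i * y) = (ζ : G → ℂ) (s * y) := by
      intro i hi
      set b : ℕ := (Nat.chineseRemainder hl 1 i.val : ℕ)
      have hb1 : b ≡ 1 [MOD Nat.lcm (orderOf y) 28] := (Nat.chineseRemainder hl 1 i.val).2.1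
      have hb2 : b ≡ i.val [MOD 5] := (Nat.chineseRemainder hl 1 i.val).2.2
      have hby : b ≡ 1 [MOD orderOf y] := Nat.ModEq.of_dvd (Nat.dvd_lcm_left _ _) hb1
      have e : (s * y) ^ b = pw s i * y := by
        rw [(show Commute s y from hy.symm).mul_pow, pw]
        congr 1
        · exact pow_eq_pow_iff_modEq.2 (hs.symm ▸ hb2)
        · conv_rhs => rw [← pow_one y]
          exact pow_eq_pow_iff_modEq.2 hby
      rw [← e]
      refine X.lift_fix hfix _ ?_ (by rw [hd]; exact Nat.ModEq.of_dvd (Nat.dvd_lcm_right _ _) hb1)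
      refine Nat.Coprime.coprime_dvd_right
        (Commute.orderOf_mul_dvd_mul_orderOf (show Commute s y from hy.symm)) ?_
      rw [hs]
      refine Nat.Coprime.mul_right ?_ ?_
      · rw [Nat.coprime_iff_gcd_eq_one, Nat.ModEq.gcd_eq hb2]
        exact ((h5.out.coprime_iff_not_dvd).2 fun h => hi ((ZMod.val_eq_zero i).1
          (Nat.eq_zero_of_dvd_of_lt h (ZMod.val_lt i)))).symm
      · rw [Nat.coprime_iff_gcd_eq_one, Nat.ModEq.gcd_eq hby, Nat.gcd_one_left]
    obtain ⟨t, ht⟩ := scalar_of_translates hm ρ hs hy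
      (fun i hi => by rw [hχ]; exact X.value_five hd hfix hs i hi)
      (c := (ζ : G → ℂ) (s * y)) (fun i hi => by rw [hχ]; exact hval i hi)
    refine Subgroup.mem_center_iff.2 fun x => ?_
    have hinj : Function.Injective ρ := by
      refine (injective_iff_map_eq_one ρ).2 fun e he => X.faith e ?_
      rw [← hχ]
      simp only [Representation.character, he, map_one]
    refine hinj ?_
    rw [map_mul, map_mul, ht, ← Module.End.one_eq_id, mul_smul_comm, mul_one, smul_mul_assoc, one_mul]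
  by_cases h5g : 5 ∣ orderOf g
  swap
  · exact ⟨0, g, core g hg h5g, by rw [pow_zero, one_mul]⟩
  obtain ⟨n, hn⟩ := h5g
  have hn5 : ¬ 5 ∣ n := fun h => hsq (by
    refine dvd_trans ?_ (orderOf_dvd_natCard g)
    rw [hn, pow_two]
    exact Nat.mul_dvd_mul_left 5 h)
  obtain ⟨k, hk⟩ : ∃ k : ℕ, ((n * k : ℕ) : ZMod 5) = 1 := by
    refine ⟨((n : ZMod 5)⁻¹).val, ?_⟩
    rw [Nat.cast_mul, ZMod.natCast_zmod_val]
    exact mul_inv_cancel₀ fun e => hn5 ((ZMod.natCast_eq_zero_iff _ _).1 e)
  set g₅ := g ^ (n * k)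
  have hg5 : g₅ ^ 5 = 1 := by
    rw [← pow_mul, show n * k * 5 = orderOf g * k by rw [hn]; ring, pow_mul, pow_orderOf_eq_one, one_pow]
  have hmem : g₅ ∈ Subgroup.zpowers s := by
    let P : Sylow 5 G := IsPGroup.toSylow (IsPGroup.of_card (n := 1)
      (show Nat.card (Subgroup.zpowers s) = 5 ^ 1 by rw [Nat.card_zpowers, hs, pow_one]))
      (fun h => hsq (by
        rw [← (Subgroup.zpowers s).card_mul_index, Nat.card_zpowers, hs, pow_two]
        exact Nat.mul_dvd_mul_left 5 h))
    refine mem_sylow_of_commute (p := 5) ⟨1, by rwa [pow_one]⟩ P fun y hy => ?_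
    obtain ⟨j, rfl⟩ := Subgroup.mem_zpowers_iff.1 (show y ∈ Subgroup.zpowers s from hy)
    exact (((show Commute g s from hg).pow_left _).zpow_right j).eq
  obtain ⟨i, hi⟩ := mem_powers_iff_mem_zpowers.2 hmem
  change s ^ i = g₅ at hi
  have hgc : Commute g g₅ := Commute.self_pow g _
  have hrest : g₅⁻¹ * g ∈ Subgroup.center G := by
    refine core _ ?_ ?_
    · exact ((show Commute g s from hg).pow_left _).inv_left.mul_left hg
    · intro h
      refine hn5 (h.trans (orderOf_dvd_of_pow_eq_one ?_))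
      rw [hgc.symm.inv_left.mul_pow, inv_pow, ← pow_mul, inv_mul_eq_one]
      refine pow_eq_pow_iff_modEq.2 ?_
      rw [hn]
      have h1 : n * k ≡ 1 [MOD 5] :=
        (ZMod.natCast_eq_natCast_iff _ _ _).1 (by rw [hk, Nat.cast_one])
      have h2 := Nat.ModEq.mul_right' n h1
      rwa [one_mul] at h2
  exact ⟨i, g₅⁻¹ * g, hrest, by rw [hi, mul_inv_cancel_left]⟩

end Exc

end Cfsg.Agent.Block.Deg26
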