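import Mathlib
import Cfsg.Agent.Lib.Block.Deg26.SevenArith
import Cfsg.Agent.Lib.Block.Deg26.SevenCent
import Cfsg.Agent.Lib.Block.Deg26.Top

/-!
The principal block for `p = 7` and the degree 4: the values of the character lie in the field
generated by the roots of unity of order 28.
-/

set_option autoImplicit false
set_option linter.unusedSectionVars false
set_option linter.style.haveILetI false
set_option maxHeartbeats 800000

namespace Cfsg.Agent.Block.Deg26

open scoped ComplexConjugate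
open scoped _root_.Classical
open Cfsg Cfsg.Agent.Block Cfsg.Agent.Char Cfsg.Agent.Char.DefectOne Cfsg.Agent.Block.PMinusTwo
  Cfsg.Agent.Block.SmallFaith Cfsg.Agent.Block.Deg16

universe w

variable {G : Type w} [Group G] [Fintype G]

theorem mixed_one_apply (ζ : IrrCharacter G) (g : G) :
    mixed ζ 1 g = (ζ : G → ℂ) g * conj ((ζ : G → ℂ) g) := by rw [mixed, pow_one]

theorem neg_one_ne_one_seven : (-1 : ZMod 7) ≠ 1 := by decide

namespace Exc

variable [hp : Fact (Nat.Prime 7)] {u : G} {R : Subgroup (ZMod 7)ˣ} {ζ : IrrCharacter G}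
  (X : Exc 7 u R ζ) (hd : charDegree (ζ : G → ℂ) = 4)
include X hd

theorem seven_index : R.index = 2 := by
  have hR : Nat.card R = 3 := by
    have := X.deg
    omega
  have h := R.card_mul_index
  rw [hR, Nat.card_eq_fintype_card, ZMod.card_units] at h
  omega

theorem seven_values {i : ZMod 7} (hi : i ≠ 0) : mixed ζ 1 (pw u i) = 2 := by
  have hR : Nat.card R = 3 := by
    have := X.deg
    omega
  set f : ZMod 7 → ℂ := fun j => mixed ζ 1 (pw u j) with hf
  have hneg : ∀ j, f (-j) = f j := by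
    intro j
    have e : pw u (-j) = (pw u j)⁻¹ := by
      refine eq_inv_of_mul_eq_one_left ?_
      rw [X.sit.pw_add, neg_add_cancel, pw, ZMod.val_zero, pow_zero]
    simp only [hf, mixed_one_apply, e, IsChar.apply_inv X.isChar, Complex.conj_conj]
    ring
  have hmem : ∀ r : (ZMod 7)ˣ, r ∈ R → ∀ j, f ((r : ZMod 7) * j) = f j := by
    intro r hr j
    obtain ⟨g, hg⟩ := (X.sit.mem_R r).1 hr
    simp only [hf]
    rw [← X.sit.conj_pw' hg j]
    exact IsChar.classFun (X.mixed_isChar (Nat.coprime_one_left _)) _ _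
  have hm1 : (-1 : (ZMod 7)ˣ) ∉ R := by
    intro h
    have h1 := orderOf_dvd_natCard (⟨-1, h⟩ : R)
    rw [hR, ← Subgroup.orderOf_coe] at h1
    have h2 : orderOf (-1 : (ZMod 7)ˣ) = 2 := orderOf_eq_prime (by simp)
      fun e => absurd (congrArg (fun v : (ZMod 7)ˣ => (v : ZMod 7)) e) (by simpa using neg_one_ne_one_seven)
    rw [h2] at h1
    omega
  have hunit : ∀ a : (ZMod 7)ˣ, f (a : ZMod 7) = f 1 := by
    intro a
    by_cases ha : a ∈ R
    · simpa using hmem a ha 1
    · have h := (Subgroup.mul_mem_iff_of_index_two (X.seven_index hd) (a := -1) (b := a)).2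
        ⟨fun h => absurd h hm1, fun h => absurd h ha⟩
      have h1 := hmem _ h 1
      rw [mul_one, Units.val_mul, Units.val_neg, Units.val_one, neg_one_mul, hneg] at h1
      exact h1
  have hall : ∀ j : ZMod 7, j ≠ 0 → f j = f 1 := fun j hj => hunit (Units.mk0 j hj)
  have h6 := X.sum_sq_values
  rw [Finset.sum_congr rfl (g := fun _ => f 1) fun j hj => by
    rw [← hall j (Finset.ne_of_mem_erase hj)]
    simp only [hf, mixed_one_apply], Finset.sum_const, Finset.card_erase_of_mem (Finset.mem_univ _),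
    Finset.card_univ, ZMod.card, hR, nsmul_eq_mul] at h6
  push_cast at h6
  show f i = 2
  rw [hall i hi]
  linear_combination h6 / 6

theorem seven_data :
    (∀ k : ℕ, k.Coprime (Nat.card G) → (k : ZMod 7) = 1 →
      (∀ z ∈ Subgroup.center G, z ^ k = z) → ∀ g, (ζ : G → ℂ) (g ^ k) = (ζ : G → ℂ) g) ∧
    ∃ N : ℕ, classInner (mixed ζ 1) (mixed ζ 1) = (N : ℂ) ∧ 2 ≤ N ∧
      ∃ (δ s s' : ℤ) (x x' y : ℕ), Resid δ s s' x x' y ∧
        ((x = 8 ∧ s = 1) ∨ (x' = 8 ∧ s' = 1) ∨ x = 15 ∨ x' = 15 ∨ (δ = -1 ∧ y = 4)) ∧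
        x ∣ Nat.card (G ⧸ Subgroup.center G) ∧ x' ∣ Nat.card (G ⧸ Subgroup.center G) ∧
        ∃ φ : IrrCharacter G, omega φ = 1 ∧ charDegree (φ : G → ℂ) = y := by
  classical
  have hR : Nat.card R = 3 := by
    have := X.deg
    omega
  obtain ⟨Y, δ, F, h1mem⟩ := X.exists_block
  have hQ : Fintype.card ((ZMod 7)ˣ ⧸ R) = 2 := card_classes R (t := 2) (by rw [hR])
  have hcard : (others u 1 Y).card = 3 := (card_others F X.sit X.e_lt).trans hR
  obtain ⟨ψ, φ, hne, hψ⟩ := Finset.card_eq_two.1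
    (show ((others u 1 Y).erase (trivialIrr G)).card = 2 by
      rw [Finset.card_erase_of_mem h1mem, hcard])
  obtain ⟨⟨hψ0, hψmem⟩, hφ0, hφmem⟩ :
      (ψ ≠ trivialIrr G ∧ ψ ∈ others u 1 Y) ∧ φ ≠ trivialIrr G ∧ φ ∈ others u 1 Y := by
    have h1 : ψ ∈ ({ψ, φ} : Finset (IrrCharacter G)) := Finset.mem_insert_self _ _
    have h2 : φ ∈ ({ψ, φ} : Finset (IrrCharacter G)) :=
      Finset.mem_insert_of_mem (Finset.mem_singleton_self _)
    rw [← hψ, Finset.mem_erase] at h1 h2
    exact ⟨h1, h2⟩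
  have hs1 : sgn u (trivialIrr G) = 1 := if_pos rfl
  have hd1 : charDegree (trivialIrr G : G → ℂ) = 1 :=
    Nat.cast_injective (R := ℂ) (by rw [← charDeg_spec', Nat.cast_one]; rfl)
  have horth := orth_deg F X.sit X.e_lt
  rw [← Finset.add_sum_erase _ _ h1mem, hψ, Finset.sum_pair hne, hs1, hd1] at horth
  push_cast at horth
  obtain ⟨ky, hky⟩ := exists_fix_fam F X.sit X.e_lt 1
  obtain ⟨kx, hkx⟩ := exists_fix_const X.sit ψ (sgn u ψ) fun i hi => others_val F X.sit X.e_lt hψmem hi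
  obtain ⟨kx', hkx'⟩ := exists_fix_const X.sit φ (sgn u φ) fun i hi =>
    others_val F X.sit X.e_lt hφmem hi
  have hy2 := X.two_le_fam F 1
  have hx2 := X.two_le_deg hψ0
  have hx2' := X.two_le_deg hφ0
  rw [hR] at hky
  push_cast at hky hkx hkx'
  set x := charDegree (ψ : G → ℂ) with hxdef
  set x' := charDegree (φ : G → ℂ) with hxdef'
  set y := charDegree (Y 1 : G → ℂ) with hydef
  set s := sgn u ψ with hsdef
  set s' := sgn u φ with hsdef'
  have hresid : Resid δ s s' x x' y := by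
    refine ⟨?_, ?_, ?_, ?_⟩
    · rcases F.sign with h | h <;> rw [h] at hky ⊢ <;> omega
    · rcases sgn_cases (u := u) ψ with h | h <;> rw [← hsdef] at h <;> rw [h] at hkx ⊢ <;> omega
    · rcases sgn_cases (u := u) φ with h | h <;> rw [← hsdef'] at h <;> rw [h] at hkx' ⊢ <;> omega
    · linarith [horth]
  have hdec : ∀ k : ℕ, k.Coprime (Nat.card G) → (k : ZMod 7) = 1 →
      (∀ z ∈ Subgroup.center G, z ^ k = z) →
      ∃ M m₁ m m' n r : ℕ, (m₁ : ℂ) = classInner (mixed ζ k) (trivialIrr G : G → ℂ) ∧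
        classInner (mixed ζ k) (mixed ζ k) = ((2 * M ^ 2 + (m₁ ^ 2 + (m ^ 2 + m' ^ 2)) + r : ℕ) : ℂ) ∧
        r ≤ n * n ∧
        -(δ * 3) * (2 * (M : ℤ)) + 6 * ((m₁ : ℤ) + (s * m + s' * m')) = 12 ∧
        2 * M * y + (m₁ + (m * x + m' * x')) + 7 * n = 16 := by
    intro k hk hk7 hkz
    obtain ⟨M, m, n, r, D⟩ := exists_dec F X.sit X.e_lt (X.mixed_isChar hk) (X.mixed_center hkz)
      X.mixed_one
    have hM : ∀ q, M q = M 1 := fun q => fam_eq F X.sit (IsChar.classFun (X.mixed_isChar hk))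
      (X.mixed_center hkz) (c := 2) (fun i hi => by
        rw [X.mixed_values hk7, ← mixed_one_apply, X.seven_values hd hi]) D q 1
    refine ⟨M 1, m (trivialIrr G), m ψ, m φ, n, r, (D.inner _).symm, ?_, D.rest, ?_, ?_⟩
    · rw [D.norm, ← Finset.add_sum_erase _ _ h1mem, hψ, Finset.sum_pair hne]
      simp only [hM, Finset.sum_const, Finset.card_univ, hQ, smul_eq_mul]
    · have h := D.total
      rw [Finset.sum_congr rfl fun i _ => X.mixed_values hk7 i, X.sum_sq_values, hR,
        ← Finset.add_sum_erase _ _ h1mem, hψ, Finset.sum_pair hne, hs1] at h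
      simp only [hM, Finset.sum_const, Finset.card_univ, hQ, nsmul_eq_mul] at h
      apply Int.cast_injective (α := ℂ)
      push_cast at h ⊢
      linear_combination -h
    · have h := D.degree
      rw [← Finset.add_sum_erase _ _ h1mem, hψ, Finset.sum_pair hne, hd1, hd, mul_one] at h
      simp only [hM, Finset.sum_const, Finset.card_univ, hQ, smul_eq_mul] at h
      exact h
  obtain ⟨M, m₁, m, m', n, r, hm₁, hnorm, hr, hA, hB⟩ := hdec 1 (Nat.coprime_one_left _)
    (by simp) (fun z _ => pow_one z)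
  have hm1 : m₁ = 1 := by
    rcases X.mixed_trivial (Nat.coprime_one_left (Nat.card G)) with ⟨h, -⟩ | h
    · exact Nat.cast_injective (R := ℂ) (by rw [hm₁, h, Nat.cast_one])
    · exfalso
      refine one_ne_zero (α := ℂ) ?_
      rw [← classInner_self_irr ζ.2, ← h]
      simp [classInner, trivialIrr, mixed]
  subst hm1
  simp only [one_pow] at hnorm
  have hone := seven_one hresid (by push_cast at hA ⊢; linear_combination hA) hB hr
  have hxH : x ∣ Nat.card (G ⧸ Subgroup.center G) := deg_dvd_quot ψ (mem_others.1 hψmem).1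
  have hxH' : x' ∣ Nat.card (G ⧸ Subgroup.center G) := deg_dvd_quot φ (mem_others.1 hφmem).1
  have hyH : y ∣ Nat.card (G ⧸ Subgroup.center G) := deg_dvd_quot (Y 1) (F.om 1)
  have hbad : x ≠ 13 ∧ x' ≠ 13 ∧ y ≠ 17 := by
    have key : ∀ q : ℕ, q.Prime → 7 < q → ¬ q ∣ Nat.card (G ⧸ Subgroup.center G) :=
      fun q hq h7 h => X.no_large_prime (by omega) hq h7 (by omega)
        (h.trans (Subgroup.card_quotient_dvd_card _))
    exact ⟨fun h => key 13 (by norm_num) (by norm_num) (h ▸ hxH),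
      fun h => key 13 (by norm_num) (by norm_num) (h ▸ hxH'),
      fun h => key 17 (by norm_num) (by norm_num) (h ▸ hyH)⟩
  refine ⟨fun k hk hk7 hkz g => ?_, 2 * M ^ 2 + (1 + (m ^ 2 + m' ^ 2)) + r, hnorm, by omega,
    δ, s, s', x, x', y, hresid, by omega, hxH, hxH', Y 1, F.om 1, rfl⟩
  rcases X.mixed_trivial hk with ⟨-, h⟩ | h0
  · exact h g
  exfalso
  obtain ⟨M₂, e₂, m₂, m₂', n₂, r₂, he₂, hnorm₂, -, hA₂, hB₂⟩ := hdec k hk hk7 hkz
  rw [h0, Nat.cast_eq_zero] at he₂
  subst he₂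
  rw [zero_pow (by norm_num)] at hnorm₂
  have hle := X.mixed_norm_le hk hnorm₂ hnorm
  have hzero := seven_zero hresid (by push_cast at hA₂ ⊢; linear_combination hA₂) hB₂ r₂
  omega

end Exc

end Cfsg.Agent.Block.Deg26
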