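import Mathlib
import Cfsg.Agent.Lib.Block.Deg26.SevenBlock
import Cfsg.Agent.S0984

/-!
The degree 4 for `p = 7`: `PSL(2, 7)` or `A₇` modulo the centre.
-/

set_option autoImplicit false
set_option linter.unusedSectionVars false
set_option linter.style.haveILetI false
set_option maxHeartbeats 800000

namespace Cfsg.Agent.Block.Deg26

open scoped ComplexConjugate
open scoped _root_.Classical
open Cfsg Cfsg.Agent.Block Cfsg.Agent.Char Cfsg.Agent.Char.DefectOne Cfsg.Agent.Block.PMinusTwo
  Cfsg.Agent.Block.SmallFaith Cfsg.Agent.Block.Deg16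

universe w

variable {G : Type w} [Group G] [Fintype G]

/-- The exponents by which `s` is conjugated into its powers. -/
theorem exists_fusion {q : ℕ} [hq : Fact q.Prime] {s : G} (hs : orderOf s = q) :
    ∃ R : Subgroup (ZMod q)ˣ, ∀ r : (ZMod q)ˣ, r ∈ R ↔ ∃ g : G, g * s * g⁻¹ = pw s (r : ZMod q) := by
  have hne : s ≠ 1 := fun e => hq.out.one_lt.ne (by rw [← hs, e, orderOf_one])
  have hP : Nat.card (Subgroup.zpowers s) = q := by rw [Nat.card_zpowers, hs]
  refine ⟨{ carrier := {r | ∃ g : G, g * s * g⁻¹ = pw s (r : ZMod q)}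
            one_mem' := ⟨1, by rw [one_mul, inv_one, mul_one, Units.val_one,
              pw_one hP (Subgroup.mem_zpowers s) hne]⟩
            mul_mem' := ?_
            inv_mem' := ?_ }, fun r => Iff.rfl⟩
  · rintro a b ⟨g, hg⟩ ⟨h, hh⟩
    refine ⟨g * h, ?_⟩
    have e : g * h * s * (g * h)⁻¹ = g * (h * s * h⁻¹) * g⁻¹ := by group
    rw [e, hh, pw, ← conj_pow, hg, pw_pow hP (Subgroup.mem_zpowers s) hne, ZMod.natCast_zmod_val,
      Units.val_mul]
  · rintro a ⟨g, hg⟩
    refine ⟨g⁻¹, ?_⟩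
    have e : s = pw s (a : ZMod q) ^ ((a⁻¹ : (ZMod q)ˣ) : ZMod q).val := by
      rw [pw_pow hP (Subgroup.mem_zpowers s) hne, ZMod.natCast_zmod_val, Units.mul_inv,
        pw_one hP (Subgroup.mem_zpowers s) hne]
    conv_lhs => arg 1; arg 2; rw [e, ← hg, conj_pow]
    rw [pw]
    group

theorem exists_order_elem (q : ℕ) [hq : Fact q.Prime] (h : q ∣ Nat.card (G ⧸ Subgroup.center G)) :
    ∃ t : G, orderOf t = q :=
  exists_prime_orderOf_dvd_card' q (h.trans (Subgroup.card_quotient_dvd_card _))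

namespace Exc

variable [hp : Fact (Nat.Prime 7)] {u : G} {R : Subgroup (ZMod 7)ˣ} {ζ : IrrCharacter G}
  (X : Exc 7 u R ζ) (hd : charDegree (ζ : G → ℂ) = 4)
include X hd

theorem seven_two_part : (Nat.card (G ⧸ Subgroup.center G)).factorization 2 ≤ 14 := by
  classical
  obtain ⟨hfix, -⟩ := X.seven_data hd
  haveI : Fact (Nat.Prime 2) := ⟨Nat.prime_two⟩
  set W : G → ℂ := (ζ : G → ℂ) + fun g => conj ((ζ : G → ℂ) g) with hWdef
  have hW : IsCharacter G W := IsChar.add X.isChar (IsChar.conj X.isChar)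
  refine (fact_bound (χ := W * W) (IsChar.mul hW hW) [0, 1, 4, 9, 16, 25, 36, 49]
    (C := 10461394944000) (by norm_num) (fun g hg => ?_) ?_).trans
    (fact_le_of Nat.prime_two (by norm_num) (by norm_num))
  · obtain ⟨j, hj⟩ := hg
    obtain ⟨i, -, hi⟩ := (Nat.dvd_prime_pow Nat.prime_two).1 (orderOf_dvd_of_pow_eq_one hj)
    have key : ∀ k : ℕ, k.Coprime (orderOf g) → k % 4 = 1 → 2 ≤ i →
        (ζ : G → ℂ) (g ^ k) = (ζ : G → ℂ) g := by
      intro k hk hk4 hi2
      have hc7 : (orderOf g).Coprime 7 := by rw [hi]; exact Nat.Coprime.pow_left i (by norm_num)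
      set b : ℕ := (Nat.chineseRemainder hc7 k 1 : ℕ)
      have hb1 : b ≡ k [MOD orderOf g] := (Nat.chineseRemainder hc7 k 1).2.1
      have hb2 : b ≡ 1 [MOD 7] := (Nat.chineseRemainder hc7 k 1).2.2
      have hb3 : b ≡ 1 [MOD 4] :=
        (Nat.ModEq.of_dvd (hi ▸ (Nat.pow_dvd_pow 2 hi2 : 2 ^ 2 ∣ 2 ^ i)) hb1).trans
          (by rw [Nat.ModEq]; omega)
      have hb28 : b ≡ 1 [MOD 7 * 4] :=
        (Nat.modEq_and_modEq_iff_modEq_mul (by norm_num)).1 ⟨hb2, hb3⟩
      rw [← show g ^ b = g ^ k from pow_eq_pow_iff_modEq.2 hb1]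
      refine X.lift_fix hfix g ?_ (by rw [hd]; exact hb28)
      rw [Nat.coprime_iff_gcd_eq_one, Nat.ModEq.gcd_eq hb1]
      exact hk
    have hWfix : ∀ k : ℕ, k.Coprime (orderOf g) → W (g ^ k) = W g := by
      intro k hk
      rcases Nat.lt_or_ge i 2 with hi2 | hi2
      · refine congrArg W ?_
        conv_rhs => rw [← pow_one g]
        refine pow_eq_pow_iff_modEq.2 ?_
        interval_cases i
        · rw [hi]; exact Nat.modEq_one
        · rw [hi] at hk ⊢
          have := Nat.Coprime.coprime_dvd_right (dvd_refl 2) hk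
          have h2 : k % 2 = 1 := Nat.odd_iff.1 (Nat.coprime_two_right.1 (by simpa using this))
          exact h2
      have h20 : k % 2 = 1 := Nat.odd_iff.1 (Nat.coprime_two_right.1
        (Nat.Coprime.coprime_dvd_right (hi ▸ dvd_pow_self 2 (show i ≠ 0 by omega)) hk))
      rcases (show k % 4 = 1 ∨ k % 4 = 3 by omega) with h | h
      · simp only [W, Pi.add_apply, key k hk h hi2]
      have hog : 1 ≤ orderOf g := orderOf_pos g
      have hinv : g ^ (k * (orderOf g - 1)) = (g ^ k)⁻¹ := by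
        refine eq_inv_of_mul_eq_one_right ?_
        rw [← pow_add, show k + k * (orderOf g - 1) = orderOf g * k by
          conv_rhs => rw [show orderOf g = orderOf g - 1 + 1 by omega]
          ring, pow_mul, pow_orderOf_eq_one, one_pow]
      have hk' : (k * (orderOf g - 1)) % 4 = 1 := by
        have h1 : 2 ^ 2 ∣ orderOf g := hi ▸ Nat.pow_dvd_pow 2 hi2
        have h2 : (orderOf g - 1) % 4 = 3 := by omega
        rw [Nat.mul_mod, h, h2]
      have hcop' : (k * (orderOf g - 1)).Coprime (orderOf g) :=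
        Nat.Coprime.mul_left hk ((Nat.coprime_self_sub_left hog).2 (Nat.coprime_one_left _))
      have e := key _ hcop' hk' hi2
      rw [hinv, IsChar.apply_inv X.isChar] at e
      simp only [W, Pi.add_apply]
      rw [← e, Complex.conj_conj]
      ring
    obtain ⟨n, hn⟩ := IsChar.exists_int_of_fixed hW g hWfix
    have hn' : (n : ℝ) = 2 * ((ζ : G → ℂ) g).re := by
      have h := congrArg Complex.re hn
      simp only [W, Pi.add_apply, Complex.add_re, Complex.conj_re, Complex.intCast_re] at h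
      linarith
    have hb := X.norm_le g
    rw [hd] at hb
    push_cast at hb
    have hre := Complex.abs_re_le_norm ((ζ : G → ℂ) g)
    have hn8 : -8 ≤ n ∧ n ≤ 8 := by
      have h1 := abs_le.1 (hre.trans hb)
      have h2 : ((-8 : ℤ) : ℝ) ≤ (n : ℝ) := by push_cast; linarith
      have h3 : (n : ℝ) ≤ ((8 : ℤ) : ℝ) := by push_cast; linarith
      exact ⟨by exact_mod_cast h2, by exact_mod_cast h3⟩
    obtain ⟨hlo, hhi⟩ := hn8
    by_cases h8 : n = 8 ∨ n = -8
    · refine Or.inl ⟨X.center_of_norm ?_, ?_⟩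
      · rw [hd]
        push_cast
        refine le_antisymm hb ?_
        refine le_trans ?_ hre
        rcases h8 with rfl | rfl <;> push_cast at hn'
        · rw [show ((ζ : G → ℂ) g).re = 4 by linarith]; norm_num
        · rw [show ((ζ : G → ℂ) g).re = -4 by linarith]; norm_num
      · rcases h8 with rfl | rfl <;> · rw [Pi.mul_apply, hn]; norm_num
    · refine Or.inr ?_
      rw [Pi.mul_apply, hn]
      interval_cases n <;> first | omega | norm_num
  · have h1 : W 1 = 8 := by
      simp only [W, Pi.add_apply, charDeg_spec', hd, map_natCast]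
      norm_num
    rw [Pi.mul_apply, h1]
    norm_num

theorem seven_odd_parts :
    (Nat.card (G ⧸ Subgroup.center G)).factorization 3 ≤ 2 ∧
    (Nat.card (G ⧸ Subgroup.center G)).factorization 5 ≤ 1 := by
  classical
  obtain ⟨hfix, -⟩ := X.seven_data hd
  have key : ∀ q b : ℕ, (q = 3 ∨ q = 5) → ¬ q ^ (b + 1) ∣ 5040 →
      (Nat.card (G ⧸ Subgroup.center G)).factorization q ≤ b := by
    intro q b hq hb
    haveI hqp : Fact q.Prime := ⟨by rcases hq with rfl | rfl <;> norm_num⟩
    refine (fact_bound X.isChar [-3, -2, -1, 0, 1, 2, 3] (C := 5040) (by norm_num) (fun g hg => ?_)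
      ?_).trans (fact_le_of hqp.out (by norm_num) hb)
    · obtain ⟨j, hj⟩ := hg
      obtain ⟨i, -, hi⟩ := (Nat.dvd_prime_pow hqp.out).1 (orderOf_dvd_of_pow_eq_one hj)
      have hcop : (orderOf g).Coprime (7 * charDegree (ζ : G → ℂ)) := by
        rw [hi, hd]
        exact Nat.Coprime.pow_left i (by rcases hq with rfl | rfl <;> norm_num)
      obtain ⟨n, hn, hlo, hhi, hz⟩ := X.int_value hfix g hcop
      rw [hd] at hlo hhi hz
      push_cast at hlo hhi hz
      by_cases h4 : n = 4 ∨ n = -4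
      · have hgz : g ∈ Subgroup.center G := hz h4
        have hg1 := X.center_eq_one_of_coprime hqp.out
          (by rw [hd]; rcases hq with rfl | rfl <;> norm_num) ⟨j, hj⟩ hgz
        refine Or.inl ⟨hgz, ?_⟩
        rw [hg1, charDeg_spec', hd]
        norm_num
      · refine Or.inr ?_
        rw [hn]
        interval_cases n <;> first | omega | norm_num
    · rw [charDeg_spec', hd]
      norm_num
  exact ⟨key 3 2 (Or.inl rfl) (by norm_num), key 5 1 (Or.inr rfl) (by norm_num)⟩

theorem seven_shape : ∃ a b c : ℕ, a ≤ 14 ∧ 1 ≤ b ∧ b ≤ 2 ∧ c ≤ 1 ∧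
    Nat.card (G ⧸ Subgroup.center G) = 2 ^ a * 3 ^ b * 5 ^ c * 7 ∧
    2 ^ a * 3 ^ (b - 1) * 5 ^ c % 7 = 1 := by
  classical
  obtain ⟨h3, h5⟩ := X.seven_odd_parts hd
  have hR : Nat.card R = 3 := by
    have := X.deg
    omega
  set n := Nat.card (G ⧸ Subgroup.center G) with hn
  have hn0 : n ≠ 0 := Nat.card_pos.ne'
  obtain ⟨m, hm, hcard⟩ := exists_index X.sit
  rw [hR] at hcard
  have h7 : n.factorization 7 = 1 := by
    refine le_antisymm ?_ ?_
    · by_contra hlt
      exact X.not_sq_dvd ((((show Nat.Prime 7 by norm_num)).pow_dvd_iff_le_factorization hn0).2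
        (by omega) |>.trans (Subgroup.card_quotient_dvd_card _))
    · rw [← (show Nat.Prime 7 by norm_num).pow_dvd_iff_le_factorization hn0, pow_one]
      exact ⟨3 * m, by rw [hn, hcard]; ring⟩
  have h31 : 1 ≤ n.factorization 3 := by
    rw [← Nat.prime_three.pow_dvd_iff_le_factorization hn0, pow_one]
    exact ⟨7 * m, by rw [hn, hcard]; ring⟩
  set a := n.factorization 2
  set b := n.factorization 3
  set c := n.factorization 5
  have hM0 : 2 ^ a * 3 ^ b * 5 ^ c * 7 ≠ 0 := by positivity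
  have heq : n = 2 ^ a * 3 ^ b * 5 ^ c * 7 := by
    refine Nat.eq_of_factorization_eq hn0 hM0 fun q => ?_
    have e : (2 ^ a * 3 ^ b * 5 ^ c * 7).factorization q =
        (if q = 2 then a else 0) + (if q = 3 then b else 0) + (if q = 5 then c else 0) +
          if q = 7 then 1 else 0 := by
      rw [Nat.factorization_mul (by positivity) (by norm_num), Nat.factorization_mul (by positivity)
        (by positivity), Nat.factorization_mul (by positivity) (by positivity),
        Nat.prime_two.factorization_pow, Nat.prime_three.factorization_pow,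
        (show Nat.Prime 5 by norm_num).factorization_pow, (show Nat.Prime 7 by norm_num).factorization]
      simp only [Finsupp.add_apply, Finsupp.single_apply, eq_comm (a := q)]
    rw [e]
    by_cases hq : q.Prime
    swap
    · rw [Nat.factorization_eq_zero_of_not_prime _ hq]
      have : q ≠ 2 ∧ q ≠ 3 ∧ q ≠ 5 ∧ q ≠ 7 := by
        refine ⟨?_, ?_, ?_, ?_⟩ <;> rintro rfl <;> exact hq (by norm_num)
      simp [this.1, this.2.1, this.2.2.1, this.2.2.2]
    by_cases h2' : q = 2
    · subst h2'; simp [a]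
    by_cases h3' : q = 3
    · subst h3'; simp [b]
    by_cases h5' : q = 5
    · subst h5'; simp [c]
    by_cases h7' : q = 7
    · subst h7'; simp [h7]
    rw [if_neg h2', if_neg h3', if_neg h5', if_neg h7']
    refine Nat.factorization_eq_zero_of_not_dvd fun hdvd => ?_
    refine X.no_large_prime (by omega) hq ?_ h7' (hdvd.trans (Subgroup.card_quotient_dvd_card _))
    by_contra h
    have := hq.two_le
    interval_cases q <;> first | omega | exact absurd hq (by norm_num)
  refine ⟨a, b, c, X.seven_two_part hd, h31, h3, h5, heq, ?_⟩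
  obtain ⟨b', hb'⟩ : ∃ b', b = b' + 1 := ⟨b - 1, by omega⟩
  have hm' : m = 2 ^ a * 3 ^ (b - 1) * 5 ^ c := by
    rw [hn, hcard, hb', pow_succ] at heq
    rw [hb', Nat.add_sub_cancel]
    refine Nat.eq_of_mul_eq_mul_left (show 0 < 21 by norm_num) ?_
    rw [show 21 * (2 ^ a * 3 ^ b' * 5 ^ c) = 2 ^ a * (3 ^ b' * 3) * 5 ^ c * 7 by ring, ← heq]
  rw [← hm']
  exact hm

theorem seven_no_five {a : ℕ} (hH : Nat.card (G ⧸ Subgroup.center G) = 2 ^ a * 3 * 7) :
    Nonempty (G ⧸ Subgroup.center G ≃* Matrix.ProjectiveSpecialLinearGroup (Fin 2) (ZMod 7)) := by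
  classical
  obtain ⟨-, -, -, -, δ, s, s', x, x', y, hres, h8, hx, hx', φ, hφ, hφy⟩ := X.seven_data hd
  have hodd : ∀ n : ℕ, n ∣ Nat.card (G ⧸ Subgroup.center G) → ¬ 7 ∣ n → n % 2 = 1 → n ≤ 3 := by
    intro n hn h7 h2
    rw [hH] at hn
    have h1 : n.Coprime 7 := ((show Nat.Prime 7 by norm_num).coprime_iff_not_dvd.2 h7).symm
    have h2' : n.Coprime (2 ^ a) := Nat.Coprime.pow_right a (Nat.coprime_two_right.2 (Nat.odd_iff.2 h2))
    exact Nat.le_of_dvd (by norm_num) (h2'.dvd_of_dvd_mul_left (h1.dvd_of_dvd_mul_right hn))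
  have hyd : y ∣ Nat.card (G ⧸ Subgroup.center G) := hφy ▸ deg_dvd_quot φ hφ
  have hy3 : y = 3 := by
    obtain ⟨hy', hx1, hx1', -⟩ := id hres
    refine seven_degree_three hres (hodd x hx (by omega)) (hodd x' hx' (by omega))
      (hodd y hyd (by omega)) h8
  haveI := X.quot_simple
  letI := Fintype.ofFinite (G ⧸ Subgroup.center G)
  obtain ⟨ψ, hψ, hψφ⟩ := IsIrr.exists_factor_quotient φ.2 (Subgroup.center G) fun z hz => by
    have h1 := omega_spec φ ⟨z, hz⟩ 1
    rwa [mul_one, hφ, MonoidHom.one_apply, Units.val_one, one_mul] at h1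
  set ξ : IrrCharacter (G ⧸ Subgroup.center G) := ⟨ψ, hψ⟩
  have hξ1 : (ξ : (G ⧸ Subgroup.center G) → ℂ) 1 = 3 := by
    show ψ 1 = 3
    rw [← QuotientGroup.mk_one, hψφ, charDeg_spec', hφy, hy3]
    norm_num
  have hξd : charDegree (ξ : (G ⧸ Subgroup.center G) → ℂ) = 3 :=
    Nat.cast_injective (R := ℂ) (by rw [← charDeg_spec', hξ1]; norm_num)
  have hξf : ∀ q, (ξ : (G ⧸ Subgroup.center G) → ℂ) q = (ξ : (G ⧸ Subgroup.center G) → ℂ) 1 → q = 1 := by
    intro q hq
    have hmem : q ∈ charKer (IsIrr.isCharacter ξ.2) := (mem_charKer _).2 hq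
    rcases IsSimpleGroup.eq_bot_or_eq_top_of_normal (charKer (IsIrr.isCharacter ξ.2))
      (charKer_normal _) with h | h
    · exact (Subgroup.mem_bot).1 (h ▸ hmem)
    · exfalso
      have hconst := irr_const_eq_one ξ.2 fun x => (mem_charKer _).1 (h ▸ Subgroup.mem_top x)
      rw [congrFun hconst 1] at hξ1
      norm_num at hξ1
  have hu7 : 7 ∣ Nat.card (G ⧸ Subgroup.center G) := hH ▸ dvd_mul_left 7 _
  let P : Sylow 7 (G ⧸ Subgroup.center G) := default
  have hP : ¬ (P : Subgroup (G ⧸ Subgroup.center G)).Normal := by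
    intro hn
    haveI := hn
    have hcardP : 7 ∣ Nat.card P := P.dvd_card_of_dvd_card hu7
    rcases IsSimpleGroup.eq_bot_or_eq_top_of_normal (P : Subgroup (G ⧸ Subgroup.center G)) hn with
      h | h
    · rw [h, Subgroup.card_bot] at hcardP
      omega
    · obtain ⟨k, hk⟩ := P.isPGroup'.exists_card_eq
      rw [h, Subgroup.card_top, hH] at hk
      have h3 : 3 ∣ 7 ^ k := hk ▸ ⟨2 ^ a * 7, by ring⟩
      have := Nat.prime_three.dvd_of_dvd_pow h3
      omega
  obtain ⟨iso⟩ := seven_three ξ hξf hξd P hP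
  have hbot : Subgroup.center (G ⧸ Subgroup.center G) = ⊥ := by
    refine (IsSimpleGroup.eq_bot_or_eq_top_of_normal _ inferInstance).resolve_right fun h => ?_
    have h1 := Nat.card_congr iso.toEquiv
    rw [← Subgroup.index_eq_card, h, Subgroup.index_top] at h1
    have h2 := card_psl_prime 7 (by decide)
    rw [← h1] at h2
    norm_num at h2
  exact ⟨((QuotientGroup.quotientMulEquivOfEq hbot).trans
    (QuotientGroup.quotientBot)).symm.trans iso⟩

theorem seven_with_five {a : ℕ} (ha : a ≤ 14) (ha3 : a % 3 = 0)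
    (hH : Nat.card (G ⧸ Subgroup.center G) = 2 ^ a * 9 * 5 * 7) :
    Nat.card (G ⧸ Subgroup.center G) = 2520 := by
  classical
  obtain ⟨hfix, N, hN, hN2, -⟩ := X.seven_data hd
  have hR : Nat.card R = 3 := by
    have := X.deg
    omega
  haveI : Fact (Nat.Prime 5) := ⟨by norm_num⟩
  haveI : Fact (Nat.Prime 3) := ⟨Nat.prime_three⟩
  have hz5 : ¬ 5 ∣ Nat.card (Subgroup.center G) := X.center_coprime (by norm_num) (by rw [hd]; norm_num)
  have hsq5 : ¬ 5 ^ 2 ∣ Nat.card G := by
    intro h
    rw [← X.index_mul] at h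
    have h1 := (Nat.Coprime.pow_left 2 ((show Nat.Prime 5 by norm_num).coprime_iff_not_dvd.2 hz5)).dvd_of_dvd_mul_right h
    rw [hH, show 2 ^ a * 9 * 5 * 7 = 5 * (2 ^ a * 63) by ring, pow_two] at h1
    have h2 := Nat.dvd_of_mul_dvd_mul_left (by norm_num) h1
    have h3 := (Nat.Coprime.pow_right a (show Nat.Coprime 5 2 by norm_num)).dvd_of_dvd_mul_left h2
    norm_num at h3
  obtain ⟨s, hs⟩ := exists_order_elem (G := G) 5 (hH ▸ ⟨2 ^ a * 63, by ring⟩)
  obtain ⟨t, ht⟩ := exists_order_elem (G := G) 3 (hH ▸ ⟨2 ^ a * 105, by ring⟩)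
  obtain ⟨R₅, hR₅⟩ := exists_fusion (q := 5) hs
  have L₅ : Sit 5 s R₅ := by
    refine ⟨hs, fun h => hsq5 ?_, hz5, fun g hg => X.cent_five hd hfix hsq5 hs hg, hR₅⟩
    rw [← (Subgroup.zpowers s).card_mul_index, Nat.card_zpowers, hs, pow_two]
    exact Nat.mul_dvd_mul_left 5 h
  set f := Nat.card R₅ with hf
  have hf4 : f ∣ 4 := by
    have h := Subgroup.card_subgroup_dvd_card R₅
    rwa [Nat.card_eq_fintype_card (α := (ZMod 5)ˣ), ZMod.card_units] at h
  -- the moment
  letI := Fintype.ofFinite (Subgroup.center G)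
  set V : G → ℂ := mixed ζ 1 with hV
  set H : G → ℂ := fun g => V g * (16 - V g) with hH'
  have hVc : IsClassFunction G V := IsChar.classFun (X.mixed_isChar (Nat.coprime_one_left _))
  have hHc : IsClassFunction G H := fun g h => by simp only [H]; rw [hVc g h]
  have hVz : ∀ (g : G) (z : Subgroup.center G), V (g * (z : G)) = V g := fun g z => by
    rw [Subgroup.mem_center_iff.1 z.2 g]
    simp only [V, X.mixed_center (fun w _ => pow_one w), MonoidHom.one_apply, Units.val_one, one_mul]
  have h7sum : 21 * ∑ g ∈ Finset.univ.filter (fun g : G => 7 ∣ orderOf g), H g =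
      (Nat.card G : ℂ) * 168 := by
    have h := X.sit.sum_singular hHc
    rw [Finset.sum_congr rfl (g := fun _ => ∑ _z : Subgroup.center G, (28 : ℂ)) fun i hi =>
      Finset.sum_congr rfl fun z _ => by
        simp only [H, hVz, V, X.seven_values hd (Finset.ne_of_mem_erase hi)]
        norm_num] at h
    simp only [Finset.sum_const, Finset.card_univ, Finset.card_erase_of_mem (Finset.mem_univ _),
      nsmul_eq_mul, ← Nat.card_eq_fintype_card, Nat.card_zmod, hR] at h
    push_cast at h
    refine mul_left_cancel₀ (Nat.cast_ne_zero.2 (Nat.card_pos (α := Subgroup.center G)).ne') ?_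
    linear_combination h
  have h5sum : (f : ℂ) * 5 * ∑ g ∈ Finset.univ.filter (fun g : G => 5 ∣ orderOf g), H g =
      (Nat.card G : ℂ) * 60 := by
    have h := L₅.sum_singular hHc
    rw [Finset.sum_congr rfl (g := fun _ => ∑ _z : Subgroup.center G, (15 : ℂ)) fun i hi =>
      Finset.sum_congr rfl fun z _ => by
        simp only [H, hVz]
        simp only [V, mixed_one_apply, X.value_five hd hfix hs i (Finset.ne_of_mem_erase hi)]
        norm_num] at h
    simp only [Finset.sum_const, Finset.card_univ, Finset.card_erase_of_mem (Finset.mem_univ _),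
      nsmul_eq_mul, ← Nat.card_eq_fintype_card, Nat.card_zmod] at h
    push_cast at h
    refine mul_left_cancel₀ (Nat.cast_ne_zero.2 (Nat.card_pos (α := Subgroup.center G)).ne') ?_
    linear_combination h
  have htot : ∑ g, H g = (Nat.card G : ℂ) * (16 - N) := by
    have hc0 : (Nat.card G : ℂ) ≠ 0 := Nat.cast_ne_zero.2 Nat.card_pos.ne'
    have e1 : ∑ g, V g = (Nat.card G : ℂ) := by
      have h := classInner_self_irr ζ.2
      rw [classInner, inv_mul_eq_iff_eq_mul₀ hc0, mul_one] at h
      rw [← h]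
      exact Finset.sum_congr rfl fun g _ => mixed_one_apply ζ g
    have e2 : ∑ g, V g * V g = (Nat.card G : ℂ) * N := by
      rw [classInner, inv_mul_eq_iff_eq_mul₀ hc0] at hN
      rw [← hN]
      refine Finset.sum_congr rfl fun g _ => ?_
      simp only [V, mixed_one_apply, map_mul, Complex.conj_conj]
      ring
    rw [show (Nat.card G : ℂ) * (16 - N) = 16 * ∑ g, V g - ∑ g, V g * V g by rw [e1, e2]; ring,
      Finset.mul_sum, ← Finset.sum_sub_distrib]
    exact Finset.sum_congr rfl fun g _ => by simp only [H]; ring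
  -- real parts
  set r : G → ℝ := fun g => Complex.normSq ((ζ : G → ℂ) g) * (16 - Complex.normSq ((ζ : G → ℂ) g))
    with hr
  have hHr : ∀ g, H g = (r g : ℂ) := fun g => by
    simp only [H, V, r, mixed_one_apply, Complex.mul_conj]
    push_cast
    ring
  have hrnn : ∀ g, 0 ≤ r g := fun g => by
    refine mul_nonneg (Complex.normSq_nonneg _) ?_
    have hb := X.norm_le g
    rw [hd] at hb
    push_cast at hb
    rw [Complex.normSq_eq_norm_sq]
    nlinarith [norm_nonneg ((ζ : G → ℂ) g)]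
  simp only [hHr, ← Complex.ofReal_sum] at h7sum h5sum htot
  have h7r : 21 * ∑ g ∈ Finset.univ.filter (fun g : G => 7 ∣ orderOf g), r g =
      (Nat.card G : ℝ) * 168 := by exact_mod_cast h7sum
  have h5r : (f : ℝ) * 5 * ∑ g ∈ Finset.univ.filter (fun g : G => 5 ∣ orderOf g), r g =
      (Nat.card G : ℝ) * 60 := by exact_mod_cast h5sum
  have htotr : ∑ g, r g = (Nat.card G : ℝ) * (16 - N) := by exact_mod_cast htot
  have htS : t ∉ Finset.univ.filter (fun g : G => 7 ∣ orderOf g) ∪
      Finset.univ.filter (fun g : G => 5 ∣ orderOf g) := by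
    simp [ht]
  have hdisj : Disjoint (Finset.univ.filter (fun g : G => 7 ∣ orderOf g))
      (Finset.univ.filter (fun g : G => 5 ∣ orderOf g)) := by
    rw [Finset.disjoint_left]
    intro g h7 h5
    obtain ⟨k, i, z, hi, hz, hgk⟩ := X.sit.exists_form (Finset.mem_filter.1 h7).2
    have h5' := (Finset.mem_filter.1 h5).2
    rw [hgk, show k * (pw u i * z) * k⁻¹ = MulAut.conj k (pw u i * z) by simp,
      MulEquiv.orderOf_eq] at h5'
    have hdvd := h5'.trans (Commute.orderOf_mul_dvd_mul_orderOf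
      (show Commute (pw u i) z from Subgroup.mem_center_iff.1 hz _))
    rw [X.sit.orderOf_pw hi] at hdvd
    rcases (show Nat.Prime 5 by norm_num).dvd_mul.1 hdvd with h | h
    · omega
    · exact hz5 (h.trans (Subgroup.orderOf_dvd_natCard _ hz))
  have hpos : 0 < r t := by
    obtain ⟨n, hn, hn0, h1, h2⟩ := X.value_three hd hfix ht
    simp only [r, hn, Complex.normSq_intCast]
    have hnn : n * n < 16 ∧ 0 < n * n := by
      refine ⟨?_, mul_self_pos.2 hn0⟩
      interval_cases n <;> norm_num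
    have e1 : (0 : ℝ) < ((n * n : ℤ) : ℝ) := by exact_mod_cast hnn.2
    have e2 : ((n * n : ℤ) : ℝ) < 16 := by exact_mod_cast hnn.1
    push_cast at e1 e2
    nlinarith
  have hlt : ∑ g ∈ Finset.univ.filter (fun g : G => 7 ∣ orderOf g), r g +
      ∑ g ∈ Finset.univ.filter (fun g : G => 5 ∣ orderOf g), r g < ∑ g, r g := by
    rw [← Finset.sum_union hdisj]
    exact Finset.sum_lt_sum_of_subset (Finset.subset_univ _) (Finset.mem_univ t) htS hpos
      fun g _ _ => hrnn g
  have hG0 : (0 : ℝ) < Nat.card G := Nat.cast_pos.2 Nat.card_pos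
  have hNr : (2 : ℝ) ≤ N := by exact_mod_cast hN2
  have hf2 : 2 < f := by
    by_contra hle
    push Not at hle
    have hfr : (f : ℝ) ≤ 2 := by exact_mod_cast hle
    have hf0 : (0 : ℝ) < f := by
      have : 0 < f := Nat.card_pos
      exact_mod_cast this
    have hS5 : 0 ≤ ∑ g ∈ Finset.univ.filter (fun g : G => 5 ∣ orderOf g), r g :=
      Finset.sum_nonneg fun g _ => hrnn g
    nlinarith [mul_le_mul_of_nonneg_right hfr hS5, mul_nonneg hG0.le (sub_nonneg.2 hNr)]
  have hfour : f = 4 := by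
    have := Nat.le_of_dvd (by norm_num) hf4
    interval_cases f <;> omega
  obtain ⟨m, hm, hcard⟩ := exists_index L₅
  rw [← hf, hfour, hH] at hcard
  have hm5 : m % 5 = 1 := hm
  rw [hH]
  interval_cases a <;> omega

theorem seven_iso :
    Nonempty (G ⧸ Subgroup.center G ≃* Matrix.ProjectiveSpecialLinearGroup (Fin 2) (ZMod 7)) ∨
      Nonempty (G ⧸ Subgroup.center G ≃* alternatingGroup (Fin 7)) := by
  haveI := X.quot_simple
  obtain ⟨a, b, c, ha, hb1, hb2, hc, hH, hmod⟩ := X.seven_shape hd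
  have hp7 := two_pow_mod_seven a
  interval_cases b <;> interval_cases c <;>
    simp only [Nat.sub_self, Nat.reduceSub, pow_zero, pow_one, mul_one, Nat.reducePow] at hH hmod
  · exact Or.inl (X.seven_no_five hd hH)
  · exfalso; omega
  · exfalso; omega
  · exact Or.inr (Cfsg.Agent.S0984.result (X.seven_with_five hd ha (by omega) hH))

end Exc

end Cfsg.Agent.Block.Deg26
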