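import Mathlib
import Cfsg.Agent.Lib.Block.Deg26.Five
import Cfsg.Agent.Lib.Block.Deg26.Seven
import Cfsg.Agent.S4705

/-!
Linear groups of degree below 27 and primes above the degree plus one.
-/

set_option autoImplicit false
set_option linter.unusedSectionVars false
set_option linter.style.haveILetI false
set_option maxHeartbeats 800000

namespace Cfsg.Agent.Block.Deg26

open scoped _root_.Classical
open Cfsg Cfsg.Agent.Block Cfsg.Agent.Char Cfsg.Agent.Block.SmallFaith

universe w

/-- The centre of a group with a faithful irreducible character is cyclic. -/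
theorem center_cyclic {G : Type w} [Group G] [Finite G] (χ : IrrCharacter G)
    (hfaith : ∀ g, (χ : G → ℂ) g = (χ : G → ℂ) 1 → g = 1) :
    IsCyclic (Subgroup.center G) := by
  letI := Fintype.ofFinite G
  have hinj : Function.Injective (PMinusTwo.omega χ) :=
    (injective_iff_map_eq_one _).2 fun z hz => Subtype.ext (hfaith _ (by
      rw [PMinusTwo.omega_at_one, hz, Units.val_one, one_mul]))
  exact isCyclic_of_subgroup_isDomain ((Units.coeHom ℂ).comp (PMinusTwo.omega χ))
    (Units.val_injective.comp hinj)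

/-- A product with `SL(2, F)`, `F` of characteristic two. -/
theorem sl_prod {G : Type w} [Group G] [Finite G] {N : Subgroup G}
    (hcov : ∀ g : G, ∃ z ∈ Subgroup.center G, ∃ n ∈ N, g = z * n) {F : Type} [Field F] [CharP F 2]
    (e : N ≃* Matrix.SpecialLinearGroup (Fin 2) F × Subgroup.center N) :
    Nonempty (G ≃* Matrix.SpecialLinearGroup (Fin 2) F × Subgroup.center G) := by
  let ι : Matrix.SpecialLinearGroup (Fin 2) F →* G :=
    N.subtype.comp (e.symm.toMonoidHom.comp (MonoidHom.inl _ _))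
  have hzN : ∀ z : Subgroup.center N, ((z : N) : G) ∈ Subgroup.center G := by
    intro z
    refine Subgroup.mem_center_iff.2 fun g => ?_
    obtain ⟨c, hc, m, hm, rfl⟩ := hcov g
    have h1 : m * ((z : N) : G) = ((z : N) : G) * m :=
      congrArg Subtype.val (Subgroup.mem_center_iff.1 z.2 ⟨m, hm⟩)
    rw [mul_assoc, h1, ← mul_assoc, ← Subgroup.mem_center_iff.1 hc ((z : N) : G), mul_assoc]
  let f : Matrix.SpecialLinearGroup (Fin 2) F × Subgroup.center G →* G :=
    { toFun := fun a => ι a.1 * (a.2 : G)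
      map_one' := by simp
      map_mul' := fun a b => by
        simp only [Prod.fst_mul, Prod.snd_mul, map_mul, Subgroup.coe_mul]
        calc ι a.1 * ι b.1 * ((a.2 : G) * (b.2 : G)) = ι a.1 * (ι b.1 * (a.2 : G)) * (b.2 : G) := by
              group
          _ = _ := by rw [Subgroup.mem_center_iff.1 a.2.2 (ι b.1)]; group }
  refine ⟨(MulEquiv.ofBijective f ⟨(injective_iff_map_eq_one f).2 fun a ha => ?_, fun g => ?_⟩).symm⟩
  · change ι a.1 * (a.2 : G) = 1 at ha
    have hz : ι a.1 ∈ Subgroup.center G := by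
      rw [eq_inv_of_mul_eq_one_left ha]
      exact inv_mem a.2.2
    have hc : a.1 ∈ Subgroup.center (Matrix.SpecialLinearGroup (Fin 2) F) := by
      refine Subgroup.mem_center_iff.2 fun b => ?_
      have h1 : e.symm (b, 1) * e.symm (a.1, 1) = e.symm (a.1, 1) * e.symm (b, 1) :=
        Subtype.ext (Subgroup.mem_center_iff.1 hz ((e.symm (b, 1) : N) : G))
      rw [← map_mul, ← map_mul] at h1
      exact congrArg Prod.fst (e.symm.injective h1)
    obtain ⟨r, hr, hr'⟩ := Matrix.SpecialLinearGroup.mem_center_iff.1 hc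
    rw [Fintype.card_fin, pow_two, mul_self_eq_one_iff, CharTwo.neg_eq, or_self] at hr
    have h1 : a.1 = 1 := Subtype.ext (by rw [← hr', hr]; simp)
    rw [h1, map_one, one_mul] at ha
    exact Prod.ext h1 (Subtype.ext ha)
  · obtain ⟨z, hz, n, hn, rfl⟩ := hcov g
    set q := e ⟨n, hn⟩ with hq
    refine ⟨(q.1, ⟨z, hz⟩ * ⟨((e.symm (1, q.2) : N) : G), ?_⟩), ?_⟩
    · show ι q.1 * (z * ((e.symm (1, q.2) : N) : G)) = z * n
      rw [← mul_assoc, Subgroup.mem_center_iff.1 hz (ι q.1), mul_assoc]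
      refine congrArg (z * ·) ?_
      show ((e.symm (q.1, 1) * e.symm (1, q.2) : N) : G) = n
      rw [← map_mul, Prod.mk_mul_mk, mul_one, one_mul, hq, Prod.mk.eta, MulEquiv.symm_apply_apply]
    · have h1 : e.symm (1, q.2) ∈ Subgroup.center N := Subgroup.mem_center_iff.2 fun m => by
        refine e.injective ?_
        rw [map_mul, map_mul, MulEquiv.apply_symm_apply]
        exact Prod.ext (by simp) (Subtype.ext (Subgroup.mem_center_iff.1 q.2.2 _))
      exact hzN ⟨_, h1⟩

theorem sl_congr {K L : Type} [Field K] [Field L] (e : K ≃+* L) :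
    Nonempty (Matrix.SpecialLinearGroup (Fin 2) K ≃* Matrix.SpecialLinearGroup (Fin 2) L) := by
  refine ⟨MonoidHom.toMulEquiv (Matrix.SpecialLinearGroup.map (e : K →+* L))
    (Matrix.SpecialLinearGroup.map (e.symm : L →+* K)) ?_ ?_⟩
  · refine MonoidHom.ext fun g => ?_
    ext i j
    exact e.symm_apply_apply _
  · refine MonoidHom.ext fun g => ?_
    ext i j
    exact e.apply_symm_apply _

/-- The theorem. -/
theorem main {G : Type w} [Group G] [Finite G] (χ : IrrCharacter G)
    (hfaith : ∀ g, (χ : G → ℂ) g = (χ : G → ℂ) 1 → g = 1) {d : ℕ}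
    (hdeg : charDegree (χ : G → ℂ) = d) (hd : d < 27) {p : ℕ} [hp : Fact p.Prime] (hpd : d + 1 < p)
    (P : Sylow p G) :
    (P : Subgroup G).Normal ∨
      (Nonempty (G ⧸ Subgroup.center G ≃* Matrix.ProjectiveSpecialLinearGroup (Fin 2) (ZMod p)) ∧
        (2 * d = p + 1 ∨ 2 * d = p - 1)) ∨
      (p = 17 ∧ d = 15 ∧ ∃ (A : Type) (_ : CommGroup A) (_ : Finite A),
        Nonempty (G ≃* Matrix.SpecialLinearGroup (Fin 2) (GaloisField 2 4) × A)) ∨
      (p = 7 ∧ d = 4 ∧ Nonempty (G ⧸ Subgroup.center G ≃* ↥(alternatingGroup (Fin 7)))) ∨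
      (p = 5 ∧ d = 3 ∧ Nonempty (G ⧸ Subgroup.center G ≃* ↥(alternatingGroup (Fin 6)))) := by
  rcases exists_kernel χ hfaith hdeg hd hpd P with h | ⟨hd2, hp5, N, hcov, Q, ζ, hQ, hQn, hf, hdN⟩
  · exact Or.inl h
  right
  letI := Fintype.ofFinite N
  obtain ⟨eN⟩ := center_quot_equiv hcov
  have hsmall : ∀ (u : N), orderOf u = p → ∀ φ : IrrCharacter N,
      (φ : N → ℂ) u ≠ (φ : N → ℂ) 1 → p ≤ 2 * charDegree (φ : N → ℂ) + 1 := fun u hu φ hφ =>
    two_mul_degree_ge (by omega) (not_sq_dvd Q hQ) (no_normal_order Q hQ hQn)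
      (IsIrr.isCharacter ζ.2) hf (Cfsg.Agent.Block.charDeg_spec' ζ) (by omega) φ hu hφ
  rcases Nat.lt_or_ge 7 p with h7 | h7
  · obtain ⟨u, R, L, hcase⟩ := SmallFaith.exists_cases h7 Q hQ hQn ζ hf (by omega)
    rw [hdN] at hcase
    rcases hcase with ⟨⟨iso⟩, -, hor⟩ | ⟨ω, y, t, Z, ht, ht3, hR2, hde⟩
    · exact Or.inl ⟨⟨eN.symm.trans iso⟩, by omega⟩
    rcases eq_or_lt_of_le hR2 with he2 | he3
    · obtain ⟨a, F, hF, hF', hpa, hcardF, ⟨e⟩⟩ := Cfsg.Agent.S4705.result p (by omega) Q hQ hQn
        (ζ : N → ℂ) ζ.2 hf (by omega)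
      letI := hF
      letI := hF'
      have ha4 : a = 4 := by
        have h29 : 2 ^ a ≤ 27 := by omega
        have ha : a ≤ 4 := by
          by_contra hlt
          have := Nat.pow_le_pow_right (n := 2) (by norm_num) (show 5 ≤ a by omega)
          omega
        interval_cases a
        · norm_num at hpa; omega
        · norm_num at hpa; omega
        · norm_num at hpa; omega
        · exfalso; norm_num at hpa; exact absurd (hpa ▸ hp.out) (by norm_num)
        · rfl
      subst ha4
      norm_num at hpa hcardF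
      refine Or.inr (Or.inl ⟨hpa, by omega, ?_⟩)
      have hgal : Fintype.card F = Nat.card (GaloisField 2 4) := by
        rw [GaloisField.card 2 4 (by norm_num), hcardF]
        norm_num
      letI : Fintype (GaloisField 2 4) := Fintype.ofFinite _
      have ec : GaloisField 2 4 ≃+* F :=
        FiniteField.ringEquivOfCardEq (K := GaloisField 2 4) (K' := F)
          (by rw [← Nat.card_eq_fintype_card, hgal])
      haveI : CharP F 2 := charP_of_injective_ringHom ec.toRingHom.injective 2
      obtain ⟨eG⟩ := sl_prod hcov e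
      obtain ⟨eS⟩ := sl_congr ec
      haveI := center_cyclic χ hfaith
      haveI : NeZero (Nat.card (Subgroup.center G)) := ⟨Nat.card_pos.ne'⟩
      exact ⟨Multiplicative (ZMod (Nat.card (Subgroup.center G))), inferInstance, inferInstance,
        ⟨eG.trans (MulEquiv.prodCongr eS.symm (zmodCyclicMulEquiv inferInstance).symm)⟩⟩
    exfalso
    have hb := Z.e_add_three_le L (hsmall u L.hu) ht ht3 h7 hR2
    have he4 : Nat.card R ≤ 4 := by
      by_contra h
      have := Nat.mul_le_mul_left (Nat.card R) hb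
      nlinarith
    rcases (show Nat.card R = 3 ∨ Nat.card R = 4 by omega) with h | h <;> rw [h] at ht hde hb
    · obtain ⟨rfl, rfl⟩ : t = 6 ∧ p = 19 := by
        have h8 : t ≤ 9 := by omega
        interval_cases t <;> first
          | omega
          | (exfalso; revert hp; subst ht; intro hp; exact absurd hp.out (by norm_num))
      exact Deg16.no_nineteen Q hQ hQn ζ hf (by omega)
    · exact Deg16.even_false Z L (hsmall u L.hu) (by rw [h]; exact ht) ht3 (by omega)
        (by rw [h]; decide)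
  have hp57 : p = 5 ∨ p = 7 := by
    have h6 : p ≠ 6 := fun h => absurd (h ▸ hp.out) (by norm_num)
    omega
  obtain ⟨u, R, L, hcase⟩ := Deg16.exists_cases_few hp5 Q hQ hQn ζ hf (by omega)
  rcases hcase with ⟨⟨iso⟩, hR, he⟩ | ⟨hde, hR2, -⟩
  · exact Or.inl ⟨⟨eN.symm.trans iso⟩, by omega⟩
  obtain ⟨K, hK, v, R', ζ', hX, hdK, hRR⟩ :=
    exists_exc hp5 Q hQ hQn ζ hf (by omega) L hde hR2
  obtain ⟨eK⟩ := center_quot_equiv hK
  rw [hdN] at hde hdK
  rcases hp57 with rfl | rfl
  · obtain rfl : d = 3 := by omega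
    letI := Fintype.ofFinite K
    rcases hX.five_iso hdK with h | h <;> obtain ⟨i⟩ := h
    · exact Or.inl ⟨⟨eN.symm.trans (eK.symm.trans i)⟩, Or.inl rfl⟩
    · exact Or.inr (Or.inr (Or.inr ⟨rfl, rfl, ⟨eN.symm.trans (eK.symm.trans i)⟩⟩))
  · rcases (show Nat.card R = 2 ∨ Nat.card R = 3 by omega) with h | h
    · exfalso
      obtain ⟨a, F, _, _, hpa, -, -⟩ := Cfsg.Agent.S4705.result 7 (by norm_num) Q hQ hQn
        (ζ : N → ℂ) ζ.2 hf (by omega)
      have : a < 3 := by
        by_contra hlt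
        have := Nat.pow_le_pow_right (n := 2) (by norm_num) (show 3 ≤ a by omega)
        omega
      interval_cases a <;> norm_num at hpa
    · obtain rfl : d = 4 := by omega
      rcases hX.seven_iso hdK with h' | h' <;> obtain ⟨i⟩ := h'
      · exact Or.inl ⟨⟨eN.symm.trans (eK.symm.trans i)⟩, Or.inl rfl⟩
      · exact Or.inr (Or.inr (Or.inl ⟨rfl, rfl, ⟨eN.symm.trans (eK.symm.trans i)⟩⟩))

end Cfsg.Agent.Block.Deg26
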